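import Groth.Agent.Sga3B.DSPts
import Groth.Agent.BTGrp.K787.Kernel
import Groth.Prelude.Def_Mor2
import Mathlib.AlgebraicGeometry.Morphisms.FlatRank
import Mathlib.Algebra.Category.Ring.Under.Limits
import Mathlib.Data.ZMod.Basic

/-!
# The torsion of split tori: kernel and degree
-/

set_option autoImplicit false
set_option linter.unusedSectionVars false
universe u

open CategoryTheory CategoryTheory.Limits MonoidalCategory CartesianMonoidalCategory MonObj GrpObj AlgebraicGeometry

namespace K751.DSTors

open Groth.Agent Groth.Agent.Sga3B.DSPts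

variable {S : Scheme.{u}}

/-- the kernel of the `n`-th power on `D(M)` is `D(M / n M)`. -/
theorem isKernel_DS {M Q : Type} [AddCommGroup M] [AddCommGroup Q] (φ : M →+ Q) (hφ : Function.Surjective φ) (n : ℕ)
    (h1 : ∀ m, φ (n • m) = 0) (h2 : ∀ m, φ m = 0 → ∃ m', m = n • m') :
    AlgGrp.IsKernel (Red.DSmap S φ) ((𝟙 (Red.DS S M)) ^ n) := by
  have hpow : ∀ {T : Over S} (x : T ⟶ Red.DS S M), dsChar (x ^ n) = (dsChar x) ^ n := by
    intro T x
    exact map_pow (dsEquiv T M).symm x n
  have hmono : Mono (Red.DSmap S φ) := by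
    refine ⟨fun {T} x y hxy => ?_⟩
    apply (dsEquiv T Q).symm.injective
    change dsChar x = dsChar y
    have h3 : (dsChar x).comp (AddMonoidHom.toMultiplicative φ) = (dsChar y).comp (AddMonoidHom.toMultiplicative φ) := by
      rw [← dsChar_DSmap, ← dsChar_DSmap, hxy]
    apply MonoidHom.ext
    intro q
    obtain ⟨m, hm⟩ := hφ q.toAdd
    have h4 := DFunLike.congr_fun h3 (Multiplicative.ofAdd m)
    have h5 : (AddMonoidHom.toMultiplicative φ) (Multiplicative.ofAdd m) = q := by
      change Multiplicative.ofAdd (φ m) = q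
      rw [hm]; rfl
    simp only [MonoidHom.comp_apply, h5] at h4
    exact h4
  apply K787.BTKer.isKernel_of_points
  · rw [K787.BTKer.comp_pow_id]
    apply (dsEquiv _ M).symm.injective
    rw [map_one]
    change dsChar (Red.DSmap S φ ^ n) = 1
    rw [hpow]
    have h3 : Red.DSmap S φ = 𝟙 _ ≫ Red.DSmap S φ := (Category.id_comp _).symm
    rw [h3, dsChar_DSmap]
    apply MonoidHom.ext
    intro m
    change (dsChar (𝟙 (Red.DS S Q)) (Multiplicative.ofAdd (φ m.toAdd))) ^ n = 1
    rw [← map_pow]
    have h4 : Multiplicative.ofAdd (φ m.toAdd) ^ n = 1 := by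
      rw [← ofAdd_nsmul, ← map_nsmul, h1]; rfl
    rw [h4, map_one]
  · intro T x hx
    rw [K787.BTKer.comp_pow_id] at hx
    have hχ : (dsChar x) ^ n = 1 := by
      rw [← hpow, hx]
      exact map_one (dsEquiv T M).symm
    -- factor the character
    have hker : ∀ m : M, φ m = 0 → dsChar x (Multiplicative.ofAdd m) = 1 := by
      intro m hm
      obtain ⟨m', rfl⟩ := h2 m hm
      rw [ofAdd_nsmul, map_pow]
      exact DFunLike.congr_fun hχ (Multiplicative.ofAdd m')
    choose s hs using hφ
    have hfac : ∀ m : M, dsChar x (Multiplicative.ofAdd (s (φ m))) = dsChar x (Multiplicative.ofAdd m) := by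
      intro m
      have h5 : s (φ m) = (s (φ m) - m) + m := by abel
      have h6 := hker (s (φ m) - m) (by rw [map_sub, hs, sub_self])
      rw [h5, ofAdd_add, map_mul, h6, _root_.one_mul]
    let χ : Multiplicative Q →* Γ(T.left, ⊤) :=
      { toFun := fun q => dsChar x (Multiplicative.ofAdd (s q.toAdd))
        map_one' := by
          change dsChar x (Multiplicative.ofAdd (s (0 : Q))) = 1
          apply hker
          rw [hs]
        map_mul' := fun a b => by
          have h7 : s ((a * b).toAdd) = (s ((a * b).toAdd) - (s a.toAdd + s b.toAdd)) + (s a.toAdd + s b.toAdd) := by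
            abel
          have h8 := hker (s ((a * b).toAdd) - (s a.toAdd + s b.toAdd)) (by
            rw [map_sub, map_add, hs, hs, hs]
            exact sub_self _)
          change dsChar x (Multiplicative.ofAdd (s ((a * b).toAdd))) = _
          rw [h7, ofAdd_add, map_mul, h8, _root_.one_mul, ofAdd_add, map_mul] }
    refine ⟨dsEquiv T Q χ, ?_⟩
    rw [dsEquiv_DSmap]
    apply (dsEquiv T M).symm.injective
    rw [MulEquiv.symm_apply_apply]
    apply MonoidHom.ext
    intro m
    exact hfac m.toAdd

/-- the `n`-torsion of the split torus of rank `r`. -/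
theorem isKernel_torus (r n : ℕ) [NeZero n] :
    AlgGrp.IsKernel (Red.DSmap S ((Int.castAddHom (ZMod n)).compLeft (Fin r)) :
      Red.DS S (Fin r → ZMod n) ⟶ Red.DS S (Fin r → ℤ)) ((𝟙 (Red.DS S (Fin r → ℤ))) ^ n) := by
  apply isKernel_DS
  · intro q
    choose z hz using fun i => ZMod.intCast_surjective (q i)
    exact ⟨z, funext hz⟩
  · intro m
    funext i
    change ((n • m i : ℤ) : ZMod n) = 0
    simp
  · intro m hm
    have h3 : ∀ i, (n : ℤ) ∣ m i := fun i => by
      have h4 : ((m i : ℤ) : ZMod n) = 0 := congrFun hm i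
      exact (ZMod.intCast_zmod_eq_zero_iff_dvd (m i) n).mp h4
    choose z hz using h3
    refine ⟨z, funext fun i => ?_⟩
    rw [hz i]
    simp

/-- the degree of `D(Q)`, `Q` finite. -/
theorem isFinLocFreeOfDeg_DS (Q : Type) [AddCommGroup Q] [Finite Q] :
    Mor2.IsFinLocFreeOfDeg (Nat.card Q) (Red.DS S Q).hom := by
  let A := ULift.{u} ℤ
  let B := MonoidAlgebra (ULift.{u} ℤ) (Multiplicative Q)
  let b := MonoidAlgebra.basis (Multiplicative Q) (ULift.{u} ℤ)
  have hfin : Module.Finite A B := Module.Finite.of_basis b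
  have hfree : Module.Free A B := Module.Free.of_basis b
  have hfl : Module.Flat A B := inferInstance
  let g : Spec (CommRingCat.of B) ⟶ Spec (CommRingCat.of A) := Spec.map (CommRingCat.ofHom (algebraMap A B))
  have i1 : IsFinite g := (IsFinite.SpecMap_iff _).mpr (RingHom.finite_algebraMap.mpr hfin)
  have i2 : Flat g := Flat.SpecMap_iff.mpr (RingHom.flat_algebraMap_iff.mpr hfl)
  have i3 : LocallyOfFinitePresentation g := by
    have : IsNoetherianRing A := isNoetherianRing_of_ringEquiv ℤ ULift.ringEquiv.symm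
    infer_instance
  have h1 : (Red.diag (ULift.{u} ℤ) Q).hom = g := rfl
  have i1' : IsFinite (Red.diag (ULift.{u} ℤ) Q).hom := i1
  have i2' : Flat (Red.diag (ULift.{u} ℤ) Q).hom := i2
  have i3' : LocallyOfFinitePresentation (Red.diag (ULift.{u} ℤ) Q).hom := i3
  refine ⟨⟨MorphismProperty.pullback_snd (P := @IsFinite) _ _ i1, MorphismProperty.pullback_snd (P := @Flat) _ _ i2,
    MorphismProperty.pullback_snd (P := @LocallyOfFinitePresentation) _ _ i3⟩, fun y => ?_⟩
  have h2 := Scheme.Hom.finrank_pullback_snd (Red.diag (ULift.{u} ℤ) Q).hom (specULiftZIsTerminal.from S) y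
  refine Eq.trans h2 ?_
  refine (Scheme.Hom.finrank_SpecMap_algebraMap A B _).trans ?_
  rw [Module.rankAtStalk_eq_finrank_of_free]
  have := Fintype.ofFinite Q
  have h3 := Module.finrank_eq_card_basis b
  have h4 : Module.finrank A B = Nat.card Q := by
    refine h3.trans ?_
    rw [← Nat.card_eq_fintype_card]
    rfl
  exact h4

end K751.DSTors
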