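import Groth.Agent.SGA7.K751.FinCount
import Groth.Agent.SGA7.K751.DSTors
import Groth.Agent.WittGrp.K719.GrpHom
import Groth.Agent.Sga7.H620.DimSmooth
import Groth.Agent.Sga3.H816.TorusDim
import Groth.Agent.Sga3C.GrpIrr

/-!
# The end: if the finite part has full height then the special fibre is proper
-/

set_option autoImplicit false
set_option linter.unusedSectionVars false
universe u

open CategoryTheory CategoryTheory.Limits MonoidalCategory CartesianMonoidalCategory MonObj GrpObj AlgebraicGeometry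

namespace K751.Fin

open Groth.Agent Groth.Agent.Sga3B.DSPts

/-- the special fibre of the finite part is the full kernel. -/
theorem isKernel_special {R : Type u} [CommRing R] [IsLocalRing R] {G W : Over (Spec (CommRingCat.of R))} [GrpObj G]
    [GrpObj W] [IsCommMonObj G] {m : ℕ} {j : W ⟶ G} (h : IsFinPart G W m j) {S' : Scheme.{u}}
    (t : S' ⟶ Spec (CommRingCat.of R)) (ht : ∀ z, t z = IsLocalRing.closedPoint R) :
    AlgGrp.IsKernel ((Over.pullback t).map j) ((𝟙 (Red.bc t G) : Red.bc t G ⟶ Red.bc t G) ^ m) := by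
  have i1 := h.mono
  have i2 := h.hom
  have i3 : Mono ((Over.pullback t).map j) := inferInstance
  apply K787.BTKer.isKernel_of_points
  · rw [K787.BTKer.comp_pow_id]
    have h1 : (Over.pullback t).map j = bcEquiv t (Red.bc t W) G (((bcEquiv t (Red.bc t W) W).symm (𝟙 _)) ≫ j) := by
      rw [← bcEquiv_comp, MulEquiv.apply_symm_apply, Category.id_comp]
    rw [h1, ← map_pow]
    have h2 : ((bcEquiv t (Red.bc t W) W).symm (𝟙 _) ≫ j) ^ m = 1 := comp_pow_eq_one _ _ _ h.pow
    rw [h2, map_one]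
  · intro X x hx
    rw [K787.BTKer.comp_pow_id] at hx
    obtain ⟨y, hy⟩ := h.lift ((Over.map t).obj X) (fun Z _ => by
      have hZ : ((Over.map t).obj X).hom.base '' Z ⊆ {(IsLocalRing.closedPoint R : Spec (CommRingCat.of R))} := by
        rintro _ ⟨z, -, rfl⟩
        have h3 : ((Over.map t).obj X).hom = X.hom ≫ t := rfl
        rw [h3]
        exact ht _
      rcases Set.subset_singleton_iff_eq.mp hZ with h4 | h4
      · rw [h4]; exact isClosed_empty
      · rw [h4]
        exact (PrimeSpectrum.isClosed_singleton_iff_isMaximal _).mpr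
          (inferInstanceAs (IsLocalRing.maximalIdeal R).IsMaximal)) ((bcEquiv t X G).symm x) (by
      rw [← map_pow, hx, map_one])
    refine ⟨bcEquiv t X W y, ?_⟩
    rw [bcEquiv_comp, hy, MulEquiv.apply_symm_apply]

/-- structure of groups without additive subgroups. -/
def Struc : Prop := ∀ (K : Type u) [Field K] [IsAlgClosed K] (G : Over (Spec (CommRingCat.of K))) [GrpObj G]
    [IsCommMonObj G] [Smooth G.hom] [QuasiCompact G.hom] [ConnectedSpace G.left],
    (∀ j : Red.Ga (Spec (CommRingCat.of K)) ⟶ G, IsMonHom j → IsClosedImmersion j.left → False) →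
    ∃ (r : ℕ) (i : Red.DS (Spec (CommRingCat.of K)) (Fin r → ℤ) ⟶ G) (Q : Over (Spec (CommRingCat.of K)))
      (_ : GrpObj Q) (q : G ⟶ Q), IsMonHom i ∧ IsClosedImmersion i.left ∧ IsMonHom q ∧ Surjective q.left ∧
      Flat q.left ∧ AlgGrp.IsKernel i q ∧ IsProper Q.hom ∧ Smooth Q.hom ∧ ConnectedSpace Q.left

/-- degree of multiplication on abelian varieties. -/
def AVDeg : Prop := ∀ (K : Type u) [Field K] [IsAlgClosed K] (A : Over (Spec (CommRingCat.of K))) [GrpObj A]
    [IsProper A.hom] [Smooth A.hom] [ConnectedSpace A.left], IsCommMonObj A ∧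
    ∀ g : ℕ, topologicalKrullDim A.left = g → ∀ (n : ℕ),
    1 ≤ n → IsFinite (𝟙 A ^ n).left ∧ Flat (𝟙 A ^ n).left ∧
      ∀ a : A.left, Scheme.Hom.finrank (𝟙 A ^ n).left a = n ^ (2 * g)

/-- dimensions of quotients. -/
def DimEq : Prop := ∀ (K : Type u) [Field K] [IsAlgClosed K] {A B N : Over (Spec (CommRingCat.of K))} [GrpObj A]
    [GrpObj B] [LocallyOfFiniteType A.hom] [LocallyOfFiniteType B.hom] (u : A ⟶ B) [IsMonHom u]
    [QuasiCompact u.left] [Surjective u.left] (i : N ⟶ A), AlgGrp.IsKernel i u →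
    topologicalKrullDim A.left = topologicalKrullDim B.left + topologicalKrullDim N.left

/-- good reduction from a proper geometric special fibre. -/
def Good : Prop := ∀ (R K : Type u) [CommRing R] [IsDomain R] [IsDiscreteValuationRing R] [Field K]
    [Algebra R K] [IsFractionRing R K] (P : Over (Spec (CommRingCat.of K))) [GrpObj P] [IsProper P.hom]
    [GeometricallyIntegral P.hom] (G : Over (Spec (CommRingCat.of R)))
    [GrpObj G] [Smooth G.hom] [IsSeparated G.hom] [QuasiCompact G.hom]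
    (e' : (SGA7.genFib R K).obj G ≅ P), IsMonHom e'.hom → (∀ s, IsIrreducible (G.hom ⁻¹' {s})) →
    IsProper (Red.geomFibre (IsLocalRing.closedPoint R) G).hom → SGA7.HasGoodReduction R K P

theorem exists_nat_of_add_eq {x : WithBot ℕ∞} {r g : ℕ} (h : (g : WithBot ℕ∞) = x + (r : WithBot ℕ∞)) :
    ∃ c : ℕ, x = c ∧ g = c + r := by
  induction x using WithBot.recBotCoe with
  | bot =>
    rw [WithBot.bot_add] at h
    exact absurd h (WithBot.coe_ne_bot (a := (g : ℕ∞)))
  | coe y =>
    have h1 : ((g : ℕ∞) : WithBot ℕ∞) = ((y + (r : ℕ∞) : ℕ∞) : WithBot ℕ∞) := h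
    rw [WithBot.coe_inj] at h1
    induction y using ENat.recTopCoe with
    | top =>
      rw [top_add] at h1
      exact absurd h1 (ENat.natCast_ne_top g)
    | coe c =>
      refine ⟨c, rfl, ?_⟩
      exact_mod_cast h1

/-- a connected commutative group without additive subgroups whose `p`-torsion has full order is proper. -/
theorem isProper_of_deg (hS : Struc.{u}) (hA : AVDeg.{u}) (hD : DimEq.{u}) {k : Type u} [Field k]
    [IsAlgClosed k] (H : Over (Spec (CommRingCat.of k))) [GrpObj H] [IsCommMonObj H] [Smooth H.hom]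
    [QuasiCompact H.hom] [ConnectedSpace H.left]
    (hGa : ∀ j : Red.Ga (Spec (CommRingCat.of k)) ⟶ H, IsMonHom j → IsClosedImmersion j.left → False)
    (g : ℕ) (hg : topologicalKrullDim H.left = g) (p : ℕ) (hp : 1 < p) (b : ℕ) (hgb : 2 * g ≤ b)
    (N2 : Over (Spec (CommRingCat.of k))) (i2 : N2 ⟶ H) (h2 : AlgGrp.IsKernel i2 ((𝟙 H : H ⟶ H) ^ p))
    (hb : Mor2.IsFinLocFreeOfDeg (p ^ b) N2.hom) : IsProper H.hom := by
  have hp0 : NeZero p := ⟨by omega⟩
  obtain ⟨r, i, Q, _, q, e1, e2, e3, e4, e5, e6, e7, e8, e9⟩ := hS k H hGa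
  have hqc : QuasiCompact q.left := by
    have : QuasiCompact (q.left ≫ Q.hom) := by rw [Over.w]; infer_instance
    exact QuasiCompact.of_comp q.left Q.hom
  -- dimensions
  have d1 := hD k q i e6
  rw [hg, Sga3.H816.TorusDim.topologicalKrullDim_DS k r] at d1
  obtain ⟨c, hc, hgc⟩ := exists_nat_of_add_eq d1
  -- the torsion of `Q`
  obtain ⟨hcommQ, hA'⟩ := hA k Q
  obtain ⟨f1, f2, f3⟩ := hA' c hc p (by omega)
  let N3 := Sga3B.KerGrp.kerObj ((𝟙 Q : Q ⟶ Q) ^ p)
  let i3 : N3 ⟶ Q := Sga3B.KerGrp.kerι ((𝟙 Q : Q ⟶ Q) ^ p)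
  have h3 : AlgGrp.IsKernel i3 ((𝟙 Q : Q ⟶ Q) ^ p) := Sga3B.KerGrp.isPullback_ker _
  have hpm : IsMonHom ((𝟙 Q : Q ⟶ Q) ^ p) := K719.GrpHom.isMonHom_pow (𝟙 Q) p
  obtain ⟨gN3, hi3⟩ := Sga3B.KerGrp.exists_grpObj ((𝟙 Q : Q ⟶ Q) ^ p)
  have hN3 : Mor2.IsFinLocFreeOfDeg (p ^ (2 * c)) N3.hom := by
    have j1 : IsFinite N3.hom :=
      inferInstanceAs (IsFinite (pullback.snd ((𝟙 Q : Q ⟶ Q) ^ p).left (η[Q] : 𝟙_ (Over _) ⟶ Q).left))
    have j2 : Flat N3.hom :=
      inferInstanceAs (Flat (pullback.snd ((𝟙 Q : Q ⟶ Q) ^ p).left (η[Q] : 𝟙_ (Over _) ⟶ Q).left))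
    refine ⟨⟨j1, j2, inferInstance⟩, fun y => ?_⟩
    have := Scheme.Hom.finrank_pullback_snd ((𝟙 Q : Q ⟶ Q) ^ p).left (η[Q] : 𝟙_ (Over _) ⟶ Q).left y
    exact this.trans (f3 _)
  -- the torsion of the torus
  have hN1 := DSTors.isFinLocFreeOfDeg_DS (S := Spec (CommRingCat.of k)) (Fin r → ZMod p)
  have hcard : Nat.card (Fin r → ZMod p) = p ^ r := by
    rw [Nat.card_pi]; simp
  rw [hcard] at hN1
  have h1 := DSTors.isKernel_torus (S := Spec (CommRingCat.of k)) r p
  -- group structure on `N2`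
  obtain ⟨gN2, hi2⟩ : ∃ _ : GrpObj N2, IsMonHom i2 := by
    have : Mono i2 := K787.BTKer.mono_of_isKernel h2
    have e10 : i2 ^ p = 1 := by have := K787.BTKer.comp_eq_one h2; rwa [K787.BTKer.comp_pow_id] at this
    apply K199.PullGrp.exists_grpObj_of_pts
    · intro X
      exact K787.BTKer.exists_lift h2 1 (by rw [K787.BTKer.comp_pow_id, one_pow])
    · intro X x y
      apply K787.BTKer.exists_lift h2
      rw [K787.BTKer.comp_pow_id, mul_pow, ← MonObj.comp_pow, ← MonObj.comp_pow, e10, MonObj.comp_one,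
        MonObj.comp_one, _root_.mul_one]
    · intro X x
      apply K787.BTKer.exists_lift h2
      rw [K787.BTKer.comp_pow_id, inv_pow, ← MonObj.comp_pow, e10, MonObj.comp_one, inv_one]
  have hle := deg_torsion_le i q e6 p _ h1 i2 h2 i3 h3 hN1 hb hN3
  rw [← pow_add] at hle
  have hle2 : b ≤ r + 2 * c := (Nat.pow_le_pow_iff_right hp).mp hle
  have hr : r = 0 := by omega
  subst hr
  -- the quotient map is an isomorphism
  have hN0 := DSTors.isFinLocFreeOfDeg_DS (S := Spec (CommRingCat.of k)) (Fin 0 → ℤ)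
  have hcard0 : Nat.card (Fin 0 → ℤ) = 1 := by simp
  rw [hcard0] at hN0
  obtain ⟨⟨hK1, hK2, hK3⟩, hK4⟩ := hN0
  have hqdeg : Mor2.IsFinLocFreeOfDeg 1 q.left := by
    have sq : IsPullback ((i ▷ H) ≫ μ[H]).left (snd _ H).left q.left q.left :=
      (K787.BTKer.isPullback_of_isKernel e6).map (Over.forget _)
    refine Groth.Agent.Picfga.FiniteDescent.isFinLocFreeOfDeg_of_isPullback sq.flip ?_
    have sq2 : IsPullback (fst (Red.DS (Spec (CommRingCat.of k)) (Fin 0 → ℤ)) H).left
      (snd (Red.DS (Spec (CommRingCat.of k)) (Fin 0 → ℤ)) H).left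
      (Red.DS (Spec (CommRingCat.of k)) (Fin 0 → ℤ)).hom H.hom := IsPullback.of_hasPullback _ H.hom
    refine ⟨⟨MorphismProperty.of_isPullback (P := @IsFinite) sq2 hK1,
      MorphismProperty.of_isPullback (P := @Flat) sq2 hK2,
      MorphismProperty.of_isPullback (P := @LocallyOfFinitePresentation) sq2 hK3⟩, fun y => ?_⟩
    have := Scheme.Hom.finrank_of_isPullback _ _ _ _ sq2 y
    exact this.trans (hK4 _)
  obtain ⟨⟨k1, k2, k3⟩, k4⟩ := hqdeg
  have hiso : IsIso q.left := (Scheme.Hom.isIso_iff_finrank_eq (f := q.left)).mpr (funext k4)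
  rw [← Over.w q]
  infer_instance

/-- The geometric fibres of a group scheme with irreducible fibres are connected. -/
theorem connectedSpace_pullback {S : Scheme.{u}} (G : Over S) [GrpObj G] [LocallyOfFiniteType G.hom]
    (h : ∀ s : S, IsIrreducible (G.hom ⁻¹' {s})) {k : Type u} [Field k] (t : Spec (CommRingCat.of k) ⟶ S) :
    ConnectedSpace ↥(pullback G.hom t) := by
  have : GrpObj (Over.mk G.hom) := inferInstanceAs (GrpObj G)
  have h1 : GeometricallyIrreducible G.hom :=
    Sga3C.GrpIrr.geometricallyIrreducible_of_connected_fibres G.hom fun s => ⟨(h s).1, (h s).2.isPreconnected⟩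
  have h2 : GeometricallyIrreducible (pullback.snd G.hom t) := inferInstance
  have h3 : Subsingleton (Spec (CommRingCat.of k)) := inferInstanceAs (Subsingleton (PrimeSpectrum k))
  have h4 : Nonempty (Spec (CommRingCat.of k)) := inferInstanceAs (Nonempty (PrimeSpectrum k))
  have h5 : IrreducibleSpace ↥(pullback G.hom t) :=
    GeometricallyIrreducible.irreducibleSpace_of_subsingleton (pullback.snd G.hom t)
  infer_instance

/-- **END**: full height of the finite part implies good reduction. -/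
theorem hasGoodReduction_of_deg (hS : Struc.{u}) (hA : AVDeg.{u}) (hD : DimEq.{u}) (hGood : Good.{u})
    (R K : Type u) [CommRing R] [IsDomain R] [IsDiscreteValuationRing R] [Field K] [Algebra R K] [IsFractionRing R K]
    (A : Over (Spec (CommRingCat.of K))) [GrpObj A] [IsProper A.hom] [GeometricallyIntegral A.hom] (g : ℕ)
    (hg : topologicalKrullDim A.left = g) (G : Over (Spec (CommRingCat.of R))) [GrpObj G] [IsCommMonObj G]
    [Smooth G.hom] [IsSeparated G.hom] [QuasiCompact G.hom] (e : (SGA7.genFib R K).obj G ≅ A) (he : IsMonHom e.hom)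
    (hirr : ∀ s, IsIrreducible (G.hom ⁻¹' {s})) (hGa : SGA7.FibreUnipotentRankZero (IsLocalRing.closedPoint R) G)
    (p : ℕ) (hp : 1 < p) (W : Over (Spec (CommRingCat.of R))) [GrpObj W] (j : W ⟶ G) (hj : IsFinPart G W p j)
    (b : ℕ) (hb : 2 * g ≤ b) (hW : Mor2.IsFinLocFreeOfDeg (p ^ b) W.hom) : SGA7.HasGoodReduction R K A := by
  refine hGood R K A G e he hirr ?_
  let s : Spec (CommRingCat.of R) := IsLocalRing.closedPoint R
  let t := Red.geomPt s
  obtain ⟨n, hn⟩ := Sga7.H620.DimSmooth.exists_dim G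
  -- the dimension
  have h1 := hn K (Spec.map (CommRingCat.ofHom (algebraMap R K)))
  have hng : n = g := by
    have e1 : (Red.bc (Spec.map (CommRingCat.ofHom (algebraMap R K))) G).left ≅ A.left := (Over.forget _).mapIso e
    have h2 : topologicalKrullDim (Red.bc (Spec.map (CommRingCat.ofHom (algebraMap R K))) G).left =
        topologicalKrullDim A.left := (Scheme.homeoOfIso e1).isHomeomorph.topologicalKrullDim_eq
    rw [h1, hg] at h2
    exact_mod_cast h2
  subst hng
  have hconn : ConnectedSpace (Red.geomFibre s G).left := connectedSpace_pullback G hirr t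
  have i1 : Smooth (Red.geomFibre s G).hom := inferInstanceAs (Smooth (pullback.snd G.hom t))
  have i2 : QuasiCompact (Red.geomFibre s G).hom := inferInstanceAs (QuasiCompact (pullback.snd G.hom t))
  have ht : ∀ z, t z = IsLocalRing.closedPoint R := fun z => by
    have h3 : Set.range t ⊆ {s} := by
      have := Scheme.range_fromSpecResidueField s
      change Set.range (_ ≫ (Spec (CommRingCat.of R)).fromSpecResidueField s) ⊆ _
      rw [← this]
      rintro _ ⟨z, rfl⟩
      rw [Scheme.Hom.comp_apply]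
      exact ⟨_, rfl⟩
    exact h3 ⟨z, rfl⟩
  have hk := isKernel_special hj t ht
  obtain ⟨⟨hK1, hK2, hK3⟩, hK4⟩ := hW
  have hdeg : Mor2.IsFinLocFreeOfDeg (p ^ b) (Red.bc t W).hom := by
    refine ⟨⟨inferInstanceAs (IsFinite (pullback.snd W.hom t)), inferInstanceAs (Flat (pullback.snd W.hom t)),
      inferInstanceAs (LocallyOfFinitePresentation (pullback.snd W.hom t))⟩, fun y => ?_⟩
    exact (Scheme.Hom.finrank_pullback_snd W.hom t y).trans (hK4 _)
  exact isProper_of_deg hS hA hD (Red.geomFibre s G) hGa n (hn _ t) p hp b hb (Red.bc t W) _ hk hdeg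

end K751.Fin
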