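import Groth.Agent.SGA7.K751.FinEnd
import Groth.Agent.AbVar.K517.Img
import Groth.Agent.S1842
import Groth.Agent.Books.AlgPtsSmooth
import Groth.Agent.Sga3B.RedIdComp
import Mathlib.AlgebraicGeometry.Group.Abelian

/-!
# Dimensions of quotients and degree of multiplication on abelian varieties
-/

set_option autoImplicit false
universe u

open CategoryTheory CategoryTheory.Limits MonoidalCategory CartesianMonoidalCategory MonObj GrpObj AlgebraicGeometry

namespace K751.Fin

open Groth.Agent

theorem dimEq : DimEq.{u} := by
  intro K _ _ A B N _ _ _ _ u _ _ _ i hi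
  exact K517.Img.dim_eq u i hi

theorem avDeg : AVDeg.{u} := by
  intro K _ _ A _ _ _ _
  have : GrpObj (Over.mk A.hom) := ‹GrpObj A›
  have h1 : GeometricallyIrreducible A.hom :=
    Groth.Agent.Sga3C.GrpIrr.geometricallyIrreducible_of_connectedSpace A.hom
  have h0 : IsReduced A.left := Books.AlgPtsSmooth.isReduced_of_smooth A
  have h2 : GeometricallyReduced A.hom := Sga3B.RedIdComp.geometricallyReduced_of_isReduced A.hom
  have h3 : GeometricallyIntegral A.hom :=
    GeometricallyIntegral.of_geometricallyReduced_of_geometricallyIrreducible A.hom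
  exact ⟨isCommMonObj_of_isProper_of_geometricallyIntegral A, fun g hg n hn => S1842.pos_case K A g hg n hn⟩

end K751.Fin
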