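import Groth.Agent.SGA7.K751.FinEnd
import Groth.Agent.Neron.K489.FieldBc
import Groth.Agent.Sga7.H739.ProperOfFibres

/-!
# Good reduction from a proper geometric special fibre
-/

set_option autoImplicit false
universe u

open CategoryTheory CategoryTheory.Limits MonoidalCategory CartesianMonoidalCategory MonObj GrpObj AlgebraicGeometry

namespace K751.Fin

open Groth.Agent

theorem geomPt_apply {S : Scheme.{u}} (s : S) (y : Spec (CommRingCat.of (AlgebraicClosure (S.residueField s)))) :
    Red.geomPt s y = s := by
  have h2 : Red.geomPt s y ∈ Set.range (S.fromSpecResidueField s) := by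
    rw [Red.geomPt, Scheme.Hom.comp_apply]
    exact ⟨_, rfl⟩
  rwa [Scheme.range_fromSpecResidueField] at h2

/-- A morphism from the spectrum of a field to the spectrum of a local ring hitting the closed point factors through
the residue field. -/
theorem exists_factor_residue (R : Type u) [CommRing R] [IsLocalRing R] {L : Type u} [Field L]
    (g : Spec (CommRingCat.of L) ⟶ Spec (CommRingCat.of R))
    (hg : g (IsLocalRing.closedPoint L) = IsLocalRing.closedPoint R) :
    ∃ g' : Spec (CommRingCat.of L) ⟶ Spec (CommRingCat.of (IsLocalRing.ResidueField R)),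
      g' ≫ Spec.map (CommRingCat.ofHom (IsLocalRing.residue R)) = g := by
  obtain ⟨φ, rfl⟩ : ∃ φ : R →+* L, g = Spec.map (CommRingCat.ofHom φ) :=
    ⟨(Spec.preimage g).hom, by simp⟩
  have h1 : ∀ r ∈ IsLocalRing.maximalIdeal R, φ r = 0 := by
    intro r hr
    have h2 : (Spec.map (CommRingCat.ofHom φ) (IsLocalRing.closedPoint L)).asIdeal =
      (IsLocalRing.closedPoint R).asIdeal := by rw [hg]
    have h3 : r ∈ (IsLocalRing.closedPoint R).asIdeal := hr
    rw [← h2] at h3
    have h4 : φ r ∈ IsLocalRing.maximalIdeal L := h3
    rw [IsLocalRing.maximalIdeal_eq_bot] at h4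
    exact h4
  refine ⟨Spec.map (CommRingCat.ofHom (Ideal.Quotient.lift _ φ h1)), ?_⟩
  rw [← Spec.map_comp, ← CommRingCat.ofHom_comp]
  congr 2

/-- Properness of the special fibre. -/
theorem isProper_residue (R : Type u) [CommRing R] [IsLocalRing R] (G : Over (Spec (CommRingCat.of R)))
    [GrpObj G] [Smooth G.hom] [IsSeparated G.hom] [QuasiCompact G.hom]
    (hp : IsProper (Red.geomFibre (IsLocalRing.closedPoint R) G).hom) :
    IsProper (Red.bc (Spec.map (CommRingCat.ofHom (IsLocalRing.residue R))) G).hom := by
  let s : Spec (CommRingCat.of R) := IsLocalRing.closedPoint R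
  let g := Red.geomPt s
  obtain ⟨g', hg'⟩ := exists_factor_residue R g (geomPt_apply s _)
  let C := Red.bc (Spec.map (CommRingCat.ofHom (IsLocalRing.residue R))) G
  have i3 : IsSeparated C.hom := inferInstanceAs (IsSeparated (pullback.snd G.hom _))
  have i4 : Smooth C.hom := inferInstanceAs (Smooth (pullback.snd G.hom _))
  refine K489.FieldBc.isProper_of_bc g' C ?_
  have h1 : IsPullback (pullback.fst G.hom g) (pullback.snd G.hom g) G.hom
      (g' ≫ Spec.map (CommRingCat.ofHom (IsLocalRing.residue R))) := by
    rw [hg']
    exact IsPullback.of_hasPullback _ _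
  have h2 := IsPullback.of_right' h1 (IsPullback.of_hasPullback G.hom
    (Spec.map (CommRingCat.ofHom (IsLocalRing.residue R))))
  have h3 : IsPullback (pullback.fst C.hom g') (pullback.snd C.hom g') C.hom g' := IsPullback.of_hasPullback _ _
  have h4 : pullback.snd C.hom g' = (h3.isoIsPullback _ _ h2).hom ≫ pullback.snd G.hom g :=
    (IsPullback.isoIsPullback_hom_snd ..).symm
  change UniversallyClosed (pullback.snd C.hom g')
  rw [h4]
  have h5 : UniversallyClosed (pullback.snd G.hom g) := hp.toUniversallyClosed
  infer_instance

/-- Good reduction from a proper geometric special fibre. -/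
theorem good : Good.{u} := by
  intro R K _ _ _ _ _ _ P _ _ _ G _ _ _ _ e' he' hirr hp
  have hs := isProper_residue R G hp
  have hel : IsIso e'.hom.left := inferInstanceAs (IsIso ((Over.forget _).map e'.hom))
  have hw : pullback.snd G.hom (Spec.map (CommRingCat.ofHom (algebraMap R K))) = e'.hom.left ≫ P.hom :=
    (Over.w e'.hom).symm
  have hK : IsProper (pullback.snd G.hom (Spec.map (CommRingCat.ofHom (algebraMap R K)))) := by
    rw [hw]; infer_instance
  have hKi : GeometricallyIntegral (pullback.snd G.hom (Spec.map (CommRingCat.ofHom (algebraMap R K)))) := by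
    rw [hw]
    exact (MorphismProperty.cancel_left_of_respectsIso @GeometricallyIntegral _ _).mpr inferInstance
  have hne : Nonempty ↥(pullback G.hom (Spec.map (CommRingCat.ofHom (IsLocalRing.residue R)))) := by
    have := connectedSpace_pullback G hirr (Spec.map (CommRingCat.ofHom (IsLocalRing.residue R)))
    infer_instance
  have hp : IsProper G.hom := Sga7.H739.ProperOfFibres.isProper_of_fibres (K := K) G.hom hK hKi hs hne
  exact ⟨G, inferInstance, e', he', hp, inferInstance, fun k' _ t => connectedSpace_pullback G hirr t⟩

end K751.Fin
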