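import Groth.Agent.SGA7.K751.FinHens
import Groth.Agent.SGA7.K751.FinGood
import Groth.Agent.SGA7.K751.FinAV
import Groth.Agent.Sga7.H109.Struct

/-!
# The finite part: existence of the Barsotti-Tate group and the criterion of good reduction, without hypotheses
-/

set_option autoImplicit false
universe u

open CategoryTheory CategoryTheory.Limits MonoidalCategory CartesianMonoidalCategory MonObj GrpObj AlgebraicGeometry

namespace K751.FinMain

open Groth.Agent K751.Fin

theorem struc : Struc.{u} := by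
  intro K _ _ G _ _ _ _ _ h
  exact Sga7.H109.Struct.exists_semiabelian G h

/-- **END**: full height of the finite part implies good reduction. -/
theorem hasGoodReduction_of_deg (R K : Type u) [CommRing R] [IsDomain R] [IsDiscreteValuationRing R] [Field K]
    [Algebra R K] [IsFractionRing R K]
    (A : Over (Spec (CommRingCat.of K))) [GrpObj A] [IsProper A.hom] [GeometricallyIntegral A.hom] (g : ℕ)
    (hg : topologicalKrullDim A.left = g) (G : Over (Spec (CommRingCat.of R))) [GrpObj G] [IsCommMonObj G]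
    [Smooth G.hom] [IsSeparated G.hom] [QuasiCompact G.hom] (e : (SGA7.genFib R K).obj G ≅ A) (he : IsMonHom e.hom)
    (hirr : ∀ s, IsIrreducible (G.hom ⁻¹' {s})) (hGa : SGA7.FibreUnipotentRankZero (IsLocalRing.closedPoint R) G)
    (p : ℕ) (hp : 1 < p) (W : Over (Spec (CommRingCat.of R))) [GrpObj W] (j : W ⟶ G) (hj : IsFinPart G W p j)
    (b : ℕ) (hb : 2 * g ≤ b) (hW : Mor2.IsFinLocFreeOfDeg (p ^ b) W.hom) : SGA7.HasGoodReduction R K A :=
  K751.Fin.hasGoodReduction_of_deg struc avDeg dimEq good R K A g hg G e he hirr hGa p hp W j hj b hb hW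

/-- the criterion for the Barsotti-Tate group of finite parts. -/
theorem hasGoodReduction_of_height (R K : Type u) [CommRing R] [IsDomain R] [IsDiscreteValuationRing R] [Field K]
    [Algebra R K] [IsFractionRing R K]
    (A : Over (Spec (CommRingCat.of K))) [GrpObj A] [IsProper A.hom] [GeometricallyIntegral A.hom] (g : ℕ)
    (hg : topologicalKrullDim A.left = g) (G : Over (Spec (CommRingCat.of R))) [GrpObj G] [IsCommMonObj G]
    [Smooth G.hom] [IsSeparated G.hom] [QuasiCompact G.hom] (e : (SGA7.genFib R K).obj G ≅ A) (he : IsMonHom e.hom)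
    (hirr : ∀ s, IsIrreducible (G.hom ⁻¹' {s})) (hGa : SGA7.FibreUnipotentRankZero (IsLocalRing.closedPoint R) G)
    (p : ℕ) [Fact p.Prime] (h : ℕ) (W : BTGrp.ProBT p (Spec (CommRingCat.of R)) h) (j : ∀ n, W.G n ⟶ G)
    (hj : ∀ n, IsFinPart G (W.G n) (p ^ n) (j n)) (hgh : 2 * g ≤ h) : SGA7.HasGoodReduction R K A := by
  have h1 : IsFinPart G (W.G 1) p (j 1) := by
    have := hj 1
    rwa [pow_one] at this
  have h2 := W.finLocFree 1
  rw [Nat.one_mul] at h2
  exact hasGoodReduction_of_deg R K A g hg G e he hirr hGa p (Fact.out : p.Prime).one_lt (W.G 1) (j 1) h1 h hgh h2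

/-- irreducible geometric fibres give irreducible fibres. -/
theorem isIrreducible_fibre {S : Scheme.{u}} (H : Over S)
    (h : ∀ (k' : Type u) [Field k'] (t : Spec (CommRingCat.of k') ⟶ S), IrreducibleSpace ↑(pullback H.hom t))
    (s : S) : IsIrreducible (H.hom ⁻¹' {s}) := by
  have h1 : IrreducibleSpace ↑(pullback H.hom (S.fromSpecResidueField s)) := h _ (S.fromSpecResidueField s)
  have h2 : Set.range (H.hom.fiberι s) = H.hom ⁻¹' {s} := Scheme.Hom.range_fiberι H.hom s
  have h3 : IsIrreducible (Set.univ : Set ↑(pullback H.hom (S.fromSpecResidueField s))) :=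
    (irreducibleSpace_def _).mp h1
  rw [← h2, ← Set.image_univ]
  exact h3.image _ (H.hom.fiberι s).continuous.continuousOn

/-- **FIN** in the form of `K346.ViaAsm`. -/
theorem fin (R K : Type u) [CommRing R] [IsDomain R] [IsDiscreteValuationRing R] [CharZero R]
    [HenselianLocalRing R] [IsAlgClosed (IsLocalRing.ResidueField R)] [Field K] [Algebra R K] [IsFractionRing R K]
    (p : ℕ) [Fact p.Prime] (H : Over (Spec (CommRingCat.of R))) [GrpObj H] [IsCommMonObj H] [Smooth H.hom]
    [IsSeparated H.hom] [QuasiCompact H.hom]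
    (hirr : ∀ (k' : Type u) [Field k'] (t : Spec (CommRingCat.of k') ⟶ Spec (CommRingCat.of R)),
      IrreducibleSpace ↑(pullback H.hom t))
    (hGa : SGA7.FibresUnipotentRankZero H)
    [IsProper ((SGA7.genFib R K).obj H).hom] [GeometricallyIntegral ((SGA7.genFib R K).obj H).hom] :
    ∃ (hW : ℕ) (W : BTGrp.ProBT p (Spec (CommRingCat.of R)) hW) (j : ∀ n, W.G n ⟶ H),
      (∀ n, IsFinPart H (W.G n) (p ^ n) (j n)) ∧ (∀ n, W.incl n ≫ j (n + 1) = j n) ∧
      (∀ n, W.proj n ≫ j n = (j (n + 1)) ^ p) := by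
  have : CharZero K := charZero_of_injective_algebraMap (IsFractionRing.injective R K)
  exact exists_proBT R K H (isIrreducible_fibre H hirr) (hGa _) p

/-- **END** in the form of `K346.ViaAsm`. -/
theorem «end» (R K : Type u) [CommRing R] [IsDomain R] [IsDiscreteValuationRing R] [Field K]
    [Algebra R K] [IsFractionRing R K] (p : ℕ) [Fact p.Prime]
    (A : Over (Spec (CommRingCat.of K))) [GrpObj A] [IsProper A.hom] [GeometricallyIntegral A.hom] (g : ℕ)
    (hg : topologicalKrullDim A.left = g) (H : Over (Spec (CommRingCat.of R))) [GrpObj H] [IsCommMonObj H]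
    [Smooth H.hom] [IsSeparated H.hom] [QuasiCompact H.hom]
    (hirr : ∀ (k' : Type u) [Field k'] (t : Spec (CommRingCat.of k') ⟶ Spec (CommRingCat.of R)),
      IrreducibleSpace ↑(pullback H.hom t))
    (hGa : SGA7.FibresUnipotentRankZero H)
    (e : Red.bc (Spec.map (CommRingCat.ofHom (algebraMap R K))) H ≅ A) (he : IsMonHom e.hom)
    (hW : ℕ) (W : BTGrp.ProBT p (Spec (CommRingCat.of R)) hW) (j : ∀ n, W.G n ⟶ H)
    (hj : ∀ n, IsFinPart H (W.G n) (p ^ n) (j n)) (hgh : 2 * g ≤ hW) : SGA7.HasGoodReduction R K A :=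
  hasGoodReduction_of_height R K A g hg H e he (isIrreducible_fibre H hirr) (hGa _) p hW W j hj hgh

end K751.FinMain
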