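import Groth.Agent.SGA7.K751.Tow
import Groth.Agent.SGA7.K564.Tate.Iface
import Groth.Agent.SGA7.K564.Tate.Pairing
import Groth.Agent.HopfRep.K188.Cartier
import Mathlib.RingTheory.TensorProduct.Free
import Mathlib.FieldTheory.Fixed
import Mathlib.RingTheory.Artinian.Ring
import Mathlib.FieldTheory.IsAlgClosed.Basic
import Mathlib.LinearAlgebra.FreeModule.PID
import Mathlib.LinearAlgebra.Dual.Lemmas
import Mathlib.RingTheory.RootsOfUnity.PrimitiveRoots
import Mathlib.RingTheory.RootsOfUnity.AlgebraicallyClosed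

/-!
# BAS: compatible dual bases of the Tate modules of a Barsotti-Tate system and of its dual
-/

set_option autoImplicit false
universe u v

open TensorProduct CartDual K564.Tate

namespace K751.Bas

section count

variable (F : Type u) [Field F] [IsAlgClosed F]

theorem eq_zero_of_forall (C : Type v) [CommRing C] [Algebra F C] [Module.Finite F C] [IsReduced C] (c : C)
    (h : ∀ x : C →ₐ[F] F, x c = 0) : c = 0 := by
  have hA : IsArtinianRing C := IsArtinianRing.of_finite F C
  have h1 : c ∈ Ideal.jacobson (⊥ : Ideal C) := by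
    rw [Ideal.jacobson, Submodule.mem_sInf]
    rintro m ⟨-, hm⟩
    let _ : Field (C ⧸ m) := Ideal.Quotient.field m
    have hb : Function.Bijective (algebraMap F (C ⧸ m)) :=
      IsAlgClosed.algebraMap_bijective_of_isIntegral
    let e : F ≃ₐ[F] (C ⧸ m) := AlgEquiv.ofBijective (Algebra.ofId F (C ⧸ m)) hb
    have h2 := h (e.symm.toAlgHom.comp (Ideal.Quotient.mkₐ F m))
    have h3 : e.symm (Ideal.Quotient.mk m c) = 0 := h2
    rw [map_eq_zero_iff _ e.symm.injective, Ideal.Quotient.eq_zero_iff_mem] at h3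
    exact h3
  have h2 : Ideal.jacobson (⊥ : Ideal C) = nilradical C := by
    rw [IsArtinianRing.jacobson_eq_radical, nilradical]
    rfl
  rw [h2, nilradical_eq_zero C] at h1
  exact h1

variable {R : Type u} [CommRing R] [IsDomain R] [Algebra R F]
  (B : Type u) [CommRing B] [HopfAlgebra R B] [Module.Finite R B] [Module.Free R B]

/-- the dimension of the space of `F`-valued linear forms. -/
theorem finrank_lin : Module.finrank F (B →ₗ[R] F) = Module.finrank R B := by
  have e1 : (B →ₗ[R] F) ≃ₗ[F] (Module.Free.ChooseBasisIndex R B → F) :=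
    ((Module.Free.chooseBasis R B).constr F).symm
  rw [e1.finrank_eq, Module.finrank_fintype_fun_eq_card, Module.finrank_eq_card_chooseBasisIndex]

theorem finite_lin : Module.Finite F (B →ₗ[R] F) := by
  have e1 : (B →ₗ[R] F) ≃ₗ[F] (Module.Free.ChooseBasisIndex R B → F) :=
    ((Module.Free.chooseBasis R B).constr F).symm
  exact Module.Finite.equiv e1.symm

theorem finite_pts : Finite (B →ₐ[R] F) := by
  have := finite_lin F (R := R) B
  exact (linearIndependent_toLinearMap R B F).finite

variable [CharZero F]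

/-- the `F`-valued points span the space of linear forms. -/
theorem span_pts : Submodule.span F (Set.range (AlgHom.toLinearMap : (B →ₐ[R] F) → B →ₗ[R] F)) = ⊤ := by
  have h0 := finite_lin F (R := R) B
  have h1 := finite_pts F (R := R) B
  have hred : IsReduced (F ⊗[R] B) := K188.Cartier.isReduced_of_isAlgClosed F (F ⊗[R] B)
  -- evaluation of `F ⊗ B` at points is injective
  let ev : F ⊗[R] B →ₗ[F] ((B →ₐ[R] F) → F) := LinearMap.pi fun x =>
    (Algebra.TensorProduct.lift (Algebra.ofId F F) x (fun _ _ => Commute.all _ _)).toLinearMap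
  have hev : Function.Injective ev := by
    rw [injective_iff_map_eq_zero]
    intro c hc
    refine eq_zero_of_forall F (F ⊗[R] B) c fun y => ?_
    let x : B →ₐ[R] F := (y.restrictScalars R).comp Algebra.TensorProduct.includeRight
    have h2 : y = Algebra.TensorProduct.lift (Algebra.ofId F F) x (fun _ _ => Commute.all _ _) := by
      apply Algebra.TensorProduct.ext
      · exact Subsingleton.elim _ _
      · exact AlgHom.ext fun b => by simp [x]
    have h3 := congrFun hc x
    rw [h2]
    exact h3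
  have h4 : Module.finrank F (F ⊗[R] B) = Module.finrank R B := Module.finrank_baseChange
  have h5 : Module.finrank R B ≤ Nat.card (B →ₐ[R] F) := by
    have h6 := LinearMap.finrank_le_finrank_of_injective hev
    rw [h4] at h6
    have := Fintype.ofFinite (B →ₐ[R] F)
    rw [Module.finrank_fintype_fun_eq_card, ← Nat.card_eq_fintype_card] at h6
    exact h6
  have := Fintype.ofFinite (B →ₐ[R] F)
  apply (linearIndependent_toLinearMap R B F).span_eq_top_of_card_eq_finrank'
  have h7 := (linearIndependent_toLinearMap R B F).fintype_card_le_finrank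
  rw [finrank_lin] at h7 ⊢
  rw [Nat.card_eq_fintype_card] at h5
  exact le_antisymm h7 h5

theorem card_pts : Nat.card (B →ₐ[R] F) = Module.finrank R B := by
  have h1 := finite_pts F (R := R) B
  have := Fintype.ofFinite (B →ₐ[R] F)
  rw [Nat.card_eq_fintype_card, ← finrank_lin F (R := R) B, ← finrank_top, ← span_pts F B]
  exact (finrank_span_eq_card (linearIndependent_toLinearMap R B F)).symm

/-- two linear maps agreeing at points agree. -/
theorem ext_pts {M : Type*} [AddCommGroup M] [Module F M] {f g : (B →ₗ[R] F) →ₗ[F] M}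
    (h : ∀ x : B →ₐ[R] F, f x.toLinearMap = g x.toLinearMap) : f = g := by
  apply LinearMap.ext_on (span_pts F B)
  rintro _ ⟨x, rfl⟩
  exact h x

end count

section split

theorem exists_retr {R : Type u} [CommRing R] [IsDomain R] [IsPrincipalIdealRing R] {M N : Type u} [AddCommGroup M]
    [Module R M] [AddCommGroup N] [Module R N] [Module.Finite R N] (f : M →ₗ[R] N)
    (hf : Function.Injective f) (hsat : ∀ (r : R) (b : N), r ≠ 0 → (∃ a, f a = r • b) → ∃ a, f a = b) :
    ∃ g : N →ₗ[R] M, ∀ a, g (f a) = a := by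
  let Q := N ⧸ LinearMap.range f
  have htf : Module.IsTorsionFree R Q := by
    rw [Module.isTorsionFree_iff_smul_eq_zero]
    intro r x hrx
    obtain ⟨b, rfl⟩ := Submodule.Quotient.mk_surjective _ x
    by_cases hr : r = 0
    · exact Or.inl hr
    · right
      rw [← Submodule.Quotient.mk_smul, Submodule.Quotient.mk_eq_zero] at hrx
      rw [Submodule.Quotient.mk_eq_zero]
      exact hsat r b hr hrx
  have hfree : Module.Free R Q := Module.free_of_finite_type_torsion_free'
  obtain ⟨s, hs⟩ := Module.projective_lifting_property (Submodule.mkQ (LinearMap.range f)) LinearMap.id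
    (Submodule.mkQ_surjective _)
  have hk : ∀ n : N, n - s (Submodule.mkQ _ n) ∈ LinearMap.range f := by
    intro n
    have h1 : Submodule.mkQ (LinearMap.range f) (n - s (Submodule.mkQ _ n)) = 0 := by
      rw [map_sub]
      have := LinearMap.congr_fun hs (Submodule.mkQ (LinearMap.range f) n)
      simp only [LinearMap.comp_apply, LinearMap.id_apply] at this
      rw [this, sub_self]
    exact (Submodule.Quotient.mk_eq_zero _).mp h1
  let e := LinearEquiv.ofInjective f hf
  let g : N →ₗ[R] M := e.symm.toLinearMap ∘ₗ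
    LinearMap.codRestrict (LinearMap.range f) (LinearMap.id - s ∘ₗ Submodule.mkQ (LinearMap.range f)) hk
  refine ⟨g, fun a => ?_⟩
  change e.symm _ = a
  rw [LinearEquiv.symm_apply_eq]
  apply Subtype.ext
  change f a - s (Submodule.mkQ _ (f a)) = f a
  have h2 : Submodule.mkQ (LinearMap.range f) (f a) = 0 := (Submodule.Quotient.mk_eq_zero _).mpr ⟨a, rfl⟩
  rw [h2, map_zero, sub_zero]

end split

section hopf

variable {R : Type u} [CommRing R] {B B' : Type u} [CommRing B] [HopfAlgebra R B] [Coalgebra.IsCocomm R B]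
  [CommRing B'] [HopfAlgebra R B'] [Coalgebra.IsCocomm R B']

theorem pc_mul_map {S : Type v} [CommRing S] [Algebra R S] (x : WithConv (B →ₐ[R] S)) (f g : WithConv (B →ₐc[R] B)) :
    pc (f * g).ofConv S x = pc f.ofConv S x * pc g.ofConv S x :=
  congrArg WithConv.toConv (AlgHom.comp_convMul_distrib x.ofConv (WithConv.toConv (f.ofConv : B →ₐ[R] B))
    (WithConv.toConv (g.ofConv : B →ₐ[R] B)))

theorem pc_one_map {S : Type v} [CommRing S] [Algebra R S] (x : WithConv (B →ₐ[R] S)) :
    pc (1 : WithConv (B →ₐc[R] B)).ofConv S x = 1 := by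
  apply WithConv.ext
  apply AlgHom.ext
  intro b
  change x.ofConv (algebraMap R B (Coalgebra.counit b)) = algebraMap R S (Coalgebra.counit b)
  rw [AlgHom.commutes]

theorem pc_pow_map {S : Type v} [CommRing S] [Algebra R S] (x : WithConv (B →ₐ[R] S)) (k : ℕ) :
    pc ((WithConv.toConv (BialgHom.id R B)) ^ k).ofConv S x = x ^ k := by
  induction k with
  | zero => rw [pow_zero, pow_zero, pc_one_map]
  | succ k ih =>
    rw [pow_succ, pow_succ, pc_mul_map, ih]
    rfl

variable (F : Type u) [Field F] [IsAlgClosed F] [CharZero F] [IsDomain R] [Algebra R F]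
  [Module.Finite R B] [Module.Free R B] [Module.Finite R B'] [Module.Free R B']

theorem pc_surj (f : B' →ₐc[R] B) (g : B →ₗ[R] B') (hg : ∀ a, g (f a) = a) : Function.Surjective (pc f F) := by
  intro x
  by_contra hx
  let S : Set (B' →ₐ[R] F) := Set.range fun y : B →ₐ[R] F => y.comp (f : B' →ₐ[R] B)
  have h1 : x.ofConv ∉ S := by
    rintro ⟨y, hy⟩
    exact hx ⟨WithConv.toConv y, WithConv.ofConv_injective hy⟩
  have h2 := (linearIndependent_toLinearMap R B' F).notMem_span_image h1
  apply h2
  have h3 : (x.ofConv.toLinearMap ∘ₗ g : B →ₗ[R] F) ∈ Submodule.span F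
      (Set.range (AlgHom.toLinearMap : (B →ₐ[R] F) → B →ₗ[R] F)) := by
    rw [span_pts]; exact Submodule.mem_top
  let L : (B →ₗ[R] F) →ₗ[F] (B' →ₗ[R] F) :=
    { toFun := fun u => u ∘ₗ (f : B' →ₐ[R] B).toLinearMap
      map_add' := fun _ _ => rfl
      map_smul' := fun _ _ => rfl }
  have h4 := Submodule.mem_map_of_mem (f := L) h3
  rw [Submodule.map_span] at h4
  have h5 : L (x.ofConv.toLinearMap ∘ₗ g) = x.ofConv.toLinearMap := by
    apply LinearMap.ext
    intro b
    change x.ofConv (g (f b)) = x.ofConv b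
    rw [hg]
  rw [h5] at h4
  refine Submodule.span_mono ?_ h4
  rintro _ ⟨_, ⟨y, rfl⟩, rfl⟩
  exact ⟨y.comp (f : B' →ₐ[R] B), ⟨y, rfl⟩, rfl⟩

theorem pc_inj (f : B' →ₐc[R] B) (hf : Function.Surjective f) (S : Type v) [CommRing S] [Algebra R S] :
    Function.Injective (pc f S) := by
  intro x y hxy
  apply WithConv.ext
  apply AlgHom.ext
  intro b
  obtain ⟨a, rfl⟩ := hf b
  exact DFunLike.congr_fun (congrArg WithConv.ofConv hxy) a

/-- characters are determined by their values at points. -/
theorem char_unique (y y' : WithConv (D R B →ₐ[R] F)) (h : ∀ x : WithConv (B →ₐ[R] F),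
    pr B x.ofConv.toLinearMap y.ofConv.toLinearMap = pr B x.ofConv.toLinearMap y'.ofConv.toLinearMap) : y = y' := by
  apply WithConv.ext
  apply AlgHom.toLinearMap_injective
  apply pr_ext_right
  let P : (D R B →ₗ[R] F) → (B →ₗ[R] F) →ₗ[F] F := fun w =>
    { toFun := fun u => pr B u w
      map_add' := fun u u' => pr_add_left u u' w
      map_smul' := fun s u => pr_smul_left s u w }
  have h1 : P y.ofConv.toLinearMap = P y'.ofConv.toLinearMap := ext_pts F B fun x => h (WithConv.toConv x)
  exact fun u => LinearMap.congr_fun h1 u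

/-- every homomorphism from points to `F` is given by a character. -/
theorem exists_char (χ : WithConv (B →ₐ[R] F) →* F) :
    ∃ y : WithConv (D R B →ₐ[R] F), ∀ x : WithConv (B →ₐ[R] F),
      pr B x.ofConv.toLinearMap y.ofConv.toLinearMap = χ x := by
  have hfin := finite_pts F (R := R) B
  have := Fintype.ofFinite (B →ₐ[R] F)
  have hfl := finite_lin F (R := R) (D R B)
  have hfl' := finite_lin F (R := R) B
  let P : (D R B →ₗ[R] F) → (B →ₗ[R] F) →ₗ[F] F := fun w =>
    { toFun := fun u => pr B u w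
      map_add' := fun u u' => pr_add_left u u' w
      map_smul' := fun s u => pr_smul_left s u w }
  let Ψ : (D R B →ₗ[R] F) →ₗ[F] ((B →ₐ[R] F) → F) :=
    { toFun := fun w x => pr B x.toLinearMap w
      map_add' := fun w w' => funext fun x => pr_add_right x.toLinearMap w w'
      map_smul' := fun s w => funext fun x => pr_smul_right s x.toLinearMap w }
  have hΨ : Function.Injective Ψ := by
    intro w w' hw
    apply pr_ext_right
    have h1 : P w = P w' := ext_pts F B fun x => congrFun hw x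
    exact fun u => LinearMap.congr_fun h1 u
  have hd : Module.finrank F (D R B →ₗ[R] F) = Module.finrank F ((B →ₐ[R] F) → F) := by
    rw [finrank_lin, finrank_D, Module.finrank_fintype_fun_eq_card, ← Nat.card_eq_fintype_card, card_pts]
  have hΨs : Function.Surjective Ψ := (LinearMap.injective_iff_surjective_of_finrank_eq_finrank hd).mp hΨ
  obtain ⟨w, hw⟩ := hΨs fun x => χ (WithConv.toConv x)
  have hw' : ∀ x : B →ₐ[R] F, pr B x.toLinearMap w = χ (WithConv.toConv x) := fun x => congrFun hw x
  -- multiplicativity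
  let M1 : (B →ₗ[R] F) →ₗ[F] (B →ₗ[R] F) →ₗ[F] F := LinearMap.mk₂ F
    (fun u u' => pr B (WithConv.toConv u * WithConv.toConv u' : WithConv (B →ₗ[R] F)).ofConv w)
    (fun u₁ u₂ u' => by
      change pr B ((WithConv.toConv u₁ + WithConv.toConv u₂) * WithConv.toConv u' :
        WithConv (B →ₗ[R] F)).ofConv w = _
      rw [add_mul, WithConv.ofConv_add, pr_add_left])
    (fun c u u' => by
      change pr B ((c • WithConv.toConv u) * WithConv.toConv u' : WithConv (B →ₗ[R] F)).ofConv w = _
      rw [smul_mul_assoc]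
      exact pr_smul_left c _ w)
    (fun u u₁ u₂ => by
      change pr B (WithConv.toConv u * (WithConv.toConv u₁ + WithConv.toConv u₂) :
        WithConv (B →ₗ[R] F)).ofConv w = _
      rw [mul_add, WithConv.ofConv_add, pr_add_left])
    (fun c u u' => by
      change pr B (WithConv.toConv u * (c • WithConv.toConv u') : WithConv (B →ₗ[R] F)).ofConv w = _
      rw [mul_smul_comm]
      exact pr_smul_left c _ w)
  let M2 : (B →ₗ[R] F) →ₗ[F] (B →ₗ[R] F) →ₗ[F] F := LinearMap.mk₂ F
    (fun u u' => pr B u w * pr B u' w)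
    (fun u₁ u₂ u' => by rw [pr_add_left, add_mul])
    (fun c u u' => by rw [pr_smul_left, mul_assoc]; rfl)
    (fun u u₁ u₂ => by rw [pr_add_left, mul_add])
    (fun c u u' => by rw [pr_smul_left, mul_left_comm]; rfl)
  have hM : M1 = M2 := by
    refine ext_pts F B fun x => ext_pts F B fun x' => ?_
    change pr B (WithConv.toConv x.toLinearMap * WithConv.toConv x'.toLinearMap : WithConv (B →ₗ[R] F)).ofConv w =
      pr B x.toLinearMap w * pr B x'.toLinearMap w
    rw [hw', hw', ← map_mul, ← hw']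
    rfl
  have hmul : ∀ φ ψ : D R B, w (φ * ψ) = w φ * w ψ := by
    intro φ ψ
    have h1 := LinearMap.congr_fun (LinearMap.congr_fun hM (io F φ)) (io F ψ)
    change pr B (WithConv.toConv (io F φ) * WithConv.toConv (io F ψ) : WithConv (B →ₗ[R] F)).ofConv w =
      pr B (io F φ) w * pr B (io F ψ) w at h1
    rw [io_mul, pr_io, pr_io, pr_io] at h1
    exact h1
  have hone : w 1 = 1 := by
    rw [← pr_io (1 : D R B) w]
    have h2 : io F (1 : D R B) = (1 : WithConv (B →ₐ[R] F)).ofConv.toLinearMap :=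
      congrArg WithConv.ofConv (io_one (R := R) (B := B) (S := F))
    rw [h2, hw']
    exact map_one χ
  refine ⟨WithConv.toConv (AlgHom.ofLinearMap w hone hmul), fun x => ?_⟩
  exact hw' x.ofConv

end hopf

section roots

variable (p : ℕ) [Fact p.Prime] (F : Type u) [Field F] [IsAlgClosed F] [CharZero F]

theorem exists_roots : ∃ z : ℕ → F, (∀ n, IsPrimitiveRoot (z n) (p ^ n)) ∧ ∀ n, z (n + 1) ^ p = z n := by
  have hp : p.Prime := Fact.out
  have : NeZero (p : F) := ⟨Nat.cast_ne_zero.mpr hp.ne_zero⟩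
  obtain ⟨z1, hz1⟩ := HasEnoughRootsOfUnity.exists_primitiveRoot F p
  choose g hg using fun a : F => IsAlgClosed.exists_pow_nat_eq a hp.pos
  let z : ℕ → F := fun n => Nat.casesOn n 1 (fun n => Nat.rec z1 (fun _ a => g a) n)
  have h0 : z 0 = 1 := rfl
  have h1 : z 1 = z1 := rfl
  have hs : ∀ n, z (n + 2) = g (z (n + 1)) := fun n => rfl
  have hz : ∀ n, z (n + 1) ^ p = z n := by
    intro n
    cases n with
    | zero => rw [h0, zero_add, h1]; exact hz1.pow_eq_one
    | succ n => rw [hs, hg]
  have hz' : ∀ n, z (n + 1) ^ p ^ n = z1 := by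
    intro n
    induction n with
    | zero => rw [pow_zero, pow_one, zero_add, h1]
    | succ n ih => rw [pow_succ', pow_mul, hz (n + 1), ih]
  refine ⟨z, fun n => ?_, hz⟩
  cases n with
  | zero => rw [pow_zero, h0]; exact IsPrimitiveRoot.one
  | succ n =>
    have h2 : z (n + 1) ^ p ^ (n + 1) = 1 := by
      rw [pow_succ, pow_mul, hz', hz1.pow_eq_one]
    have h3 : ¬ z (n + 1) ^ p ^ n = 1 := by
      rw [hz']
      exact hz1.ne_one hp.one_lt
    rw [← orderOf_eq_prime_pow h3 h2]
    exact IsPrimitiveRoot.orderOf _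

end roots

section basis

variable {R : Type u} [CommRing R] [IsDomain R] [IsPrincipalIdealRing R] {p h : ℕ} [Fact p.Prime] (Φ : Sys R p h)
  (F : Type u) [Field F] [IsAlgClosed F] [CharZero F] [Algebra R F]

theorem pc_res_inf {S : Type v} [CommRing S] [Algebra R S] (n : ℕ) (x : WithConv (Φ.B (n + 1) →ₐ[R] S)) :
    pc (Φ.res n) S (pc (Φ.inf n) S x) = x ^ p := by
  rw [← pc_pow_map x p, ← Φ.inf_res n]
  rfl

theorem pc_inf_res {S : Type v} [CommRing S] [Algebra R S] (n : ℕ) (x : WithConv (Φ.B n →ₐ[R] S)) :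
    pc (Φ.inf n) S (pc (Φ.res n) S x) = x ^ p := by
  rw [← pc_pow_map x p, ← Φ.res_inf n]
  rfl

theorem exists_basis : ∃ (z : ℕ → F) (e : Fin h → Φ.T F) (e' : Fin h → Φ.Y F),
    (∀ n, IsPrimitiveRoot (z n) (p ^ n)) ∧ (∀ n, z (n + 1) ^ p = z n) ∧
    (∀ n i j, pr (Φ.B n) ((e i).1 n).ofConv.toLinearMap ((e' j).1 n).ofConv.toLinearMap = if i = j then z n else 1) ∧
    (∀ n (x : WithConv (Φ.B n →ₐ[R] F)), x ^ (p ^ n) = 1 ∧
      ∃ a : Fin h → ℕ, x = ∏ i, (e i).1 n ^ a i) ∧
    (∀ n (y : WithConv (D R (Φ.B n) →ₐ[R] F)), y ^ (p ^ n) = 1 ∧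
      ∃ a : Fin h → ℕ, y = ∏ j, (e' j).1 n ^ a j) := by
  classical
  have hp : p.Prime := Fact.out
  obtain ⟨z, hz, hzs⟩ := exists_roots p F
  have hfin : ∀ n, Finite (WithConv (Φ.B n →ₐ[R] F)) := fun n =>
    have := finite_pts F (R := R) (Φ.B n)
    Finite.of_injective WithConv.ofConv WithConv.ofConv_injective
  have hcard : ∀ n, Nat.card (WithConv (Φ.B n →ₐ[R] F)) = p ^ (n * h) := fun n => by
    rw [← Φ.rank n, ← card_pts F (Φ.B n)]
    exact Nat.card_congr ⟨WithConv.ofConv, WithConv.toConv, fun _ => rfl, fun _ => rfl⟩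
  obtain ⟨e, he, hgen⟩ := Tow.exists_basis (X := fun n => WithConv (Φ.B n →ₐ[R] F)) p h hcard
    (fun n => pc (Φ.res n) F) (fun n => pc (Φ.inf n) F)
    (fun n => pc_inj (Φ.res n) (Φ.res_surj n) F)
    (fun n => by
      obtain ⟨g, hg⟩ := exists_retr (Φ.inf n : Φ.B n →ₐ[R] Φ.B (n + 1)).toLinearMap (Φ.inf_inj n) (Φ.inf_sat n)
      exact pc_surj F (Φ.inf n) g hg)
    (fun n x => pc_res_inf Φ n x) (fun n x => pc_inf_res Φ n x)
  -- extensionality on generators
  have hext : ∀ n {G : Type u} [CommGroup G] (f g : WithConv (Φ.B n →ₐ[R] F) →* G), (∀ i, f (e i n) = g (e i n)) →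
      f = g := by
    intro n G _ f g hfg
    ext x
    obtain ⟨a, ha⟩ := (hgen n x).2
    rw [ha, map_prod, map_prod]
    refine Finset.prod_congr rfl fun i _ => ?_
    rw [map_pow, map_pow, hfg]
  have hext' : ∀ n (f g : WithConv (Φ.B n →ₐ[R] F) →* F), (∀ i, f (e i n) = g (e i n)) → f = g := by
    intro n f g hfg
    ext x
    obtain ⟨a, ha⟩ := (hgen n x).2
    rw [ha, map_prod, map_prod]
    refine Finset.prod_congr rfl fun i _ => ?_
    rw [map_pow, map_pow, hfg]
  -- the dual basis
  have hex : ∀ (j : Fin h) (n : ℕ), ∃ y : WithConv (D R (Φ.B n) →ₐ[R] F), ∀ i,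
      pr (Φ.B n) (e i n).ofConv.toLinearMap y.ofConv.toLinearMap = if i = j then z n else 1 := by
    intro j n
    have hN : NeZero (p ^ n) := ⟨pow_ne_zero _ hp.ne_zero⟩
    have hu : IsUnit (z n) := (hz n).isUnit (pow_ne_zero _ hp.ne_zero)
    obtain ⟨χ, hχ⟩ := Tow.exists_char (p ^ n) h (WithConv (Φ.B n →ₐ[R] F)) (by rw [hcard, pow_mul])
      (fun i => e i n) (fun x => (hgen n x).1) (fun x => (hgen n x).2) (G := Fˣ)
      (fun i => if i = j then hu.unit else 1) (fun i => by
        by_cases hij : i = j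
        · rw [if_pos hij]
          apply Units.ext
          rw [Units.val_pow_eq_pow_val, Units.val_one]
          exact (hz n).pow_eq_one
        · rw [if_neg hij, one_pow])
    obtain ⟨y, hy⟩ := exists_char F ((Units.coeHom F).comp χ)
    refine ⟨y, fun i => ?_⟩
    rw [hy (e i n)]
    change ((χ (e i n) : Fˣ) : F) = _
    rw [hχ]
    by_cases hij : i = j
    · rw [if_pos hij, if_pos hij]; rfl
    · rw [if_neg hij, if_neg hij]; rfl
  choose e' he' using hex
  have hY : ∀ (j : Fin h) (n : ℕ), pc (transpose R (Φ.res n)) F (e' j (n + 1)) = e' j n := by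
    intro j n
    apply char_unique
    have h1 : (prHom' (pc (transpose R (Φ.res n)) F (e' j (n + 1))) : WithConv (Φ.B n →ₐ[R] F) →* F) =
        prHom' (e' j n) := by
      apply hext'
      intro i
      change pr (Φ.B n) (e i n).ofConv.toLinearMap
        (pc (transpose R (Φ.res n)) F (e' j (n + 1))).ofConv.toLinearMap =
        pr (Φ.B n) (e i n).ofConv.toLinearMap (e' j n).ofConv.toLinearMap
      rw [he', ← pr_pc (Φ.res n) (e i n) (e' j (n + 1)), ← he i n, pc_res_inf]
      have h2 := map_pow (prHom' (e' j (n + 1)) : WithConv (Φ.B (n + 1) →ₐ[R] F) →* F) (e i (n + 1)) p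
      change pr (Φ.B (n + 1)) (e i (n + 1) ^ p).ofConv.toLinearMap (e' j (n + 1)).ofConv.toLinearMap =
        (pr (Φ.B (n + 1)) (e i (n + 1)).ofConv.toLinearMap (e' j (n + 1)).ofConv.toLinearMap) ^ p at h2
      rw [h2, he']
      by_cases hij : i = j
      · rw [if_pos hij, if_pos hij, hzs]
      · rw [if_neg hij, if_neg hij, one_pow]
    exact fun x => DFunLike.congr_fun h1 x
  refine ⟨z, fun i => ⟨e i, he i⟩, fun j => ⟨e' j, hY j⟩, hz, hzs, fun n i j => he' j n i, hgen, fun n y => ⟨?_, ?_⟩⟩
  · apply char_unique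
    intro x
    have h3 := map_pow (prHom x : WithConv (D R (Φ.B n) →ₐ[R] F) →* F) y (p ^ n)
    have h4 := map_pow (prHom' y : WithConv (Φ.B n →ₐ[R] F) →* F) x (p ^ n)
    rw [(hgen n x).1, map_one] at h4
    have h5 : (prHom x : WithConv (D R (Φ.B n) →ₐ[R] F) →* F) y = prHom' y x := rfl
    rw [h5, ← h4, ← map_one (prHom x : WithConv (D R (Φ.B n) →ₐ[R] F) →* F)] at h3
    exact h3
  · have hroot : ∀ i, ∃ a : ℕ, pr (Φ.B n) (e i n).ofConv.toLinearMap y.ofConv.toLinearMap = z n ^ a := by
      intro i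
      have h4 := map_pow (prHom' y : WithConv (Φ.B n →ₐ[R] F) →* F) (e i n) (p ^ n)
      rw [(hgen n (e i n)).1, map_one] at h4
      have hN : NeZero (p ^ n) := ⟨pow_ne_zero _ hp.ne_zero⟩
      obtain ⟨a, -, ha⟩ := (hz n).eq_pow_of_pow_eq_one h4.symm
      exact ⟨a, ha.symm⟩
    choose a ha using hroot
    refine ⟨a, ?_⟩
    apply char_unique
    have h6 : (prHom' y : WithConv (Φ.B n →ₐ[R] F) →* F) = prHom' (∏ j, e' j n ^ a j) := by
      apply hext'
      intro i
      change pr (Φ.B n) (e i n).ofConv.toLinearMap y.ofConv.toLinearMap =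
        (prHom (e i n) : WithConv (D R (Φ.B n) →ₐ[R] F) →* F) (∏ j, e' j n ^ a j)
      rw [map_prod, ha, Finset.prod_eq_single i]
      · rw [map_pow, prHom_apply, he', if_pos rfl]
      · intro j _ hj
        rw [map_pow, prHom_apply, he', if_neg (Ne.symm hj), one_pow]
      · intro hi; exact absurd (Finset.mem_univ i) hi
    exact fun x => DFunLike.congr_fun h6 x

end basis

section transfer

variable {R : Type u} [CommRing R] (F : Type u) [CommRing F] [Algebra R F]

theorem qc_bij (B : Type u) [CommRing B] [HopfAlgebra R B] [Coalgebra.IsCocomm R B] [Module.Finite R B] :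
    Function.Bijective (qc B (integralClosure R F).val) := by
  constructor
  · intro x y hxy
    apply WithConv.ext
    apply AlgHom.ext
    intro b
    exact Subtype.ext (DFunLike.congr_fun (congrArg WithConv.ofConv hxy) b)
  · intro x
    have h1 : ∀ b : B, x.ofConv b ∈ integralClosure R F := fun b =>
      (Algebra.IsIntegral.isIntegral (R := R) b).map x.ofConv
    exact ⟨WithConv.toConv (AlgHom.codRestrict x.ofConv (integralClosure R F) h1), rfl⟩

theorem qc_pc {B B' : Type u} [CommRing B] [HopfAlgebra R B] [Coalgebra.IsCocomm R B]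
    [CommRing B'] [HopfAlgebra R B'] [Coalgebra.IsCocomm R B'] (f : B' →ₐc[R] B) {S T : Type v} [CommRing S]
    [Algebra R S] [CommRing T] [Algebra R T] (σ : S →ₐ[R] T) (x : WithConv (B →ₐ[R] S)) :
    qc B' σ (pc f S x) = pc f T (qc B σ x) := rfl

theorem pr_qc {B : Type u} [CommRing B] [HopfAlgebra R B] [Coalgebra.IsCocomm R B] [Module.Finite R B]
    [Module.Free R B] {S T : Type v} [CommRing S] [Algebra R S] [CommRing T] [Algebra R T] (σ : S →ₐ[R] T)
    (x : WithConv (B →ₐ[R] S)) (y : WithConv (D R B →ₐ[R] S)) :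
    pr B (qc B σ x).ofConv.toLinearMap (qc (D R B) σ y).ofConv.toLinearMap =
      σ (pr B x.ofConv.toLinearMap y.ofConv.toLinearMap) :=
  pr_map σ x.ofConv.toLinearMap y.ofConv.toLinearMap

end transfer

/-- **BAS**. -/
theorem main : K564.Tate.NBas.{u} := by
  intro R K Kb _ _ _ _ _ _ _ _ _ _ _ _ _ p h _ Φ
  have hinj : Function.Injective (algebraMap R Kb) := by
    rw [IsScalarTower.algebraMap_eq R K Kb]
    exact (algebraMap K Kb).injective.comp (IsFractionRing.injective R K)
  have hchar : CharZero Kb := charZero_of_injective_algebraMap hinj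
  obtain ⟨z, e, e', hz, hzs, hpr, hg, hg'⟩ := exists_basis Φ Kb
  have hp : p.Prime := Fact.out
  have hzi : ∀ n, z n ∈ integralClosure R Kb := fun n => by
    refine IsIntegral.of_pow (pow_pos hp.pos n) (?_ : IsIntegral R (z n ^ p ^ n))
    rw [(hz n).pow_eq_one]
    exact isIntegral_one
  set O := integralClosure R Kb
  have hσ : Function.Injective O.val := Subtype.val_injective
  choose E hE using fun (i : Fin h) (n : ℕ) => (qc_bij Kb (Φ.B n)).2 ((e i).1 n)
  choose E' hE' using fun (j : Fin h) (n : ℕ) => (qc_bij Kb (D R (Φ.B n))).2 ((e' j).1 n)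
  have hET : ∀ i n, pc (Φ.inf n) O (E i (n + 1)) = E i n := fun i n => by
    apply (qc_bij Kb (Φ.B n)).1
    rw [qc_pc, hE, hE]
    exact (e i).2 n
  have hEY : ∀ j n, pc (transpose R (Φ.res n)) O (E' j (n + 1)) = E' j n := fun j n => by
    apply (qc_bij Kb (D R (Φ.B n))).1
    rw [qc_pc, hE', hE']
    exact (e' j).2 n
  refine ⟨fun n => ⟨z n, hzi n⟩, fun i => ⟨E i, hET i⟩, fun j => ⟨E' j, hEY j⟩, fun n => ?_, fun n => ?_,
    fun n i j => ?_, fun n x => ⟨?_, ?_⟩, fun n y => ⟨?_, ?_⟩⟩
  · exact IsPrimitiveRoot.of_map_of_injective (f := O.val) (hz n) hσ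
  · exact Subtype.ext (hzs n)
  · apply hσ
    change O.val (pr (Φ.B n) (E i n).ofConv.toLinearMap (E' j n).ofConv.toLinearMap) = _
    rw [← pr_qc, hE, hE', hpr]
    by_cases hij : i = j
    · rw [if_pos hij, if_pos hij]; rfl
    · rw [if_neg hij, if_neg hij, map_one]
  · apply (qc_bij Kb (Φ.B n)).1
    rw [map_pow, map_one]
    exact (hg n _).1
  · obtain ⟨a, ha⟩ := (hg n (qc (Φ.B n) O.val x)).2
    refine ⟨a, (qc_bij Kb (Φ.B n)).1 ?_⟩
    rw [ha, map_prod]
    refine Finset.prod_congr rfl fun i _ => ?_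
    change _ = qc (Φ.B n) O.val (E i n ^ a i)
    rw [map_pow, hE]
  · apply (qc_bij Kb (D R (Φ.B n))).1
    rw [map_pow, map_one]
    exact (hg' n _).1
  · obtain ⟨a, ha⟩ := (hg' n (qc (D R (Φ.B n)) O.val y)).2
    refine ⟨a, (qc_bij Kb (D R (Φ.B n))).1 ?_⟩
    rw [ha, map_prod]
    refine Finset.prod_congr rfl fun i _ => ?_
    change _ = qc (D R (Φ.B n)) O.val (E' i n ^ a i)
    rw [map_pow, hE']

end K751.Bas
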