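import Groth.Agent.SGA7.K751.Fin
import Groth.Agent.BTGrp.K787.QuotDeg
import Groth.Agent.Ega43.FPOfComp

/-!
# The finite parts of the `p^n`-torsion form a Barsotti-Tate group
-/

set_option autoImplicit false
set_option linter.unusedSectionVars false
universe u

open CategoryTheory CategoryTheory.Limits MonoidalCategory CartesianMonoidalCategory MonObj GrpObj AlgebraicGeometry

namespace K751.Fin

open Groth.Agent

section Trans

variable {R : Type u} [CommRing R] [IsLocalRing R] {G : Over (Spec (CommRingCat.of R))} [GrpObj G]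

theorem comp_pow_eq {T W : Over (Spec (CommRingCat.of R))} [GrpObj W] (j : W ⟶ G) [IsMonHom j] (x : T ⟶ W) (n : ℕ) :
    (x ^ n) ≫ j = (x ≫ j) ^ n := by rw [MonObj.pow_comp]

/-- homomorphisms into the finite part. -/
theorem isMonHom_of_comp {W W' : Over (Spec (CommRingCat.of R))} [GrpObj W] [GrpObj W'] (j : W' ⟶ G) [IsMonHom j]
    [Mono j] (a : W ⟶ W') (h : IsMonHom (a ≫ j)) : IsMonHom a where
  one_hom := by
    rw [← cancel_mono j, Category.assoc, IsMonHom.one_hom (f := a ≫ j), IsMonHom.one_hom]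
  mul_hom := by
    rw [← cancel_mono j, Category.assoc, IsMonHom.mul_hom (f := a ≫ j), Category.assoc, IsMonHom.mul_hom,
      ← Category.assoc, tensorHom_comp_tensorHom]

variable {W W' : Over (Spec (CommRingCat.of R))} [GrpObj W] [GrpObj W'] {m m' : ℕ} {j : W ⟶ G} {j' : W' ⟶ G}

/-- the smaller finite part is a kernel in the larger one. -/
theorem isKernel_of_comp [IsCommMonObj W'] (h : IsFinPart G W m j) (h' : IsFinPart G W' m' j') (a : W ⟶ W')
    (ha : a ≫ j' = j) : AlgGrp.IsKernel a ((𝟙 W') ^ m) := by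
  have i1 := h'.mono
  have i2 := h'.hom
  have i3 := h.mono
  have i5 := h'.fin
  have i4 : Mono a := by
    have : Mono (a ≫ j') := by rw [ha]; exact i3
    exact mono_of_mono a j'
  apply K787.BTKer.isKernel_of_points
  · rw [comp_pow_id, ← cancel_mono j', comp_pow_eq, ha, h.pow, MonObj.one_comp]
  · intro T x hx
    let K := Sga3B.KerGrp.kerObj ((𝟙 W' : W' ⟶ W') ^ m)
    let κ : K ⟶ W' := Sga3B.KerGrp.kerι ((𝟙 W' : W' ⟶ W') ^ m)
    have hκ : AlgGrp.IsKernel κ ((𝟙 W' : W' ⟶ W') ^ m) := Sga3B.KerGrp.isPullback_ker _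
    have hfin : IsFinite K.hom := by
      have : IsClosedImmersion κ.left := inferInstance
      rw [← Over.w κ]; infer_instance
    obtain ⟨y, hy⟩ := h.lift K K.hom.isClosedMap (κ ≫ j') (by
      have h1 := K787.BTKer.comp_eq_one hκ
      rw [comp_pow_id] at h1
      rw [← comp_pow_eq, h1, MonObj.one_comp])
    obtain ⟨t, ht⟩ := K787.BTKer.exists_lift hκ x hx
    refine ⟨t ≫ y, ?_⟩
    rw [← cancel_mono j', Category.assoc, Category.assoc, ha, hy, ← ht, Category.assoc]

/-- The kernel of `p : W' → W`. -/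
theorem isKernel_proj [IsCommMonObj W'] {p : ℕ} {W₁ : Over (Spec (CommRingCat.of R))} [GrpObj W₁] {j₁ : W₁ ⟶ G}
    (h₁ : IsFinPart G W₁ p j₁) (h : IsFinPart G W m j) (h' : IsFinPart G W' m' j') (a : W₁ ⟶ W') (ha : a ≫ j' = j₁)
    (q : W' ⟶ W) (hq : q ≫ j = j' ^ p) : AlgGrp.IsKernel a q := by
  have i1 := h'.mono
  have i2 := h'.hom
  have i6 := h.mono
  have i7 := h.hom
  have hk := isKernel_of_comp h₁ h' a ha
  have i4 : Mono a := K787.BTKer.mono_of_isKernel hk
  apply K787.BTKer.isKernel_of_points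
  · rw [← cancel_mono j, Category.assoc, hq, MonObj.comp_pow, ha, h₁.pow, MonObj.one_comp]
  · intro T x hx
    apply K787.BTKer.exists_lift hk
    have h1 : (x ≫ q) ≫ j = 1 := by rw [hx, MonObj.one_comp]
    rw [Category.assoc, hq, MonObj.comp_pow] at h1
    rw [comp_pow_id, ← cancel_mono j', comp_pow_eq, h1, MonObj.one_comp]

/-- flatness and surjectivity of `p : W' → W`. -/
theorem flat_surjective_proj {p : ℕ} [IsCommMonObj G] [Flat ((𝟙 G : G ⟶ G) ^ p).left]
    [Surjective ((𝟙 G : G ⟶ G) ^ p).left] [LocallyOfFinitePresentation W.hom] [LocallyOfFinitePresentation W'.hom]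
    (h : IsFinPart G W m j) (h' : IsFinPart G W' (m * p) j') (q : W' ⟶ W) (hq : q ≫ j = j' ^ p) :
    IsFinite q.left ∧ Flat q.left ∧ Surjective q.left ∧ LocallyOfFinitePresentation q.left := by
  have i1 := h'.mono
  have i2 := h'.hom
  have i6 := h.mono
  have i7 := h.hom
  have i8 := h.fin
  have i9 := h'.fin
  let P := Sga3B.KerGrp.kerObj ((𝟙 G : G ⟶ G) ^ m)
  let i : P ⟶ G := Sga3B.KerGrp.kerι ((𝟙 G : G ⟶ G) ^ m)
  have hi : AlgGrp.IsKernel i ((𝟙 G : G ⟶ G) ^ m) := Sga3B.KerGrp.isPullback_ker _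
  let P' := Sga3B.KerGrp.kerObj ((𝟙 G : G ⟶ G) ^ (m * p))
  let i' : P' ⟶ G := Sga3B.KerGrp.kerι ((𝟙 G : G ⟶ G) ^ (m * p))
  have hi' : AlgGrp.IsKernel i' ((𝟙 G : G ⟶ G) ^ (m * p)) := Sga3B.KerGrp.isPullback_ker _
  have hmi : Mono i := K787.BTKer.mono_of_isKernel hi
  have hmi' : Mono i' := K787.BTKer.mono_of_isKernel hi'
  have hpi : i ^ m = 1 := by
    have := K787.BTKer.comp_eq_one hi
    rwa [comp_pow_id] at this
  have hpi' : i' ^ (m * p) = 1 := by
    have := K787.BTKer.comp_eq_one hi'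
    rwa [comp_pow_id] at this
  obtain ⟨Q, hQ⟩ := K787.BTKer.exists_lift hi (i' ^ p) (by
    rw [comp_pow_id, ← pow_mul, mul_comm p m, hpi'])
  have hsl : ∀ s : PullbackCone ((𝟙 G : G ⟶ G) ^ p) i, ∃ t : s.pt ⟶ P', t ≫ i' = s.fst := fun s =>
    K787.BTKer.exists_lift hi' s.fst (by
      have h1 := s.condition
      rw [comp_pow_id] at h1
      rw [comp_pow_id, mul_comm, pow_mul, h1]
      exact comp_pow_eq_one _ _ _ hpi)
  choose lf hlf using hsl
  have sq : IsPullback i' Q ((𝟙 G : G ⟶ G) ^ p) i := by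
    refine ⟨⟨by rw [hQ, comp_pow_id]⟩, ⟨PullbackCone.IsLimit.mk _ lf hlf (fun s => ?_) (fun s t ht _ => ?_)⟩⟩
    · have h1 := s.condition
      rw [comp_pow_id] at h1
      rw [← cancel_mono i, Category.assoc, hQ, MonObj.comp_pow, hlf, h1]
    · rw [← cancel_mono i', ht, hlf]
  have sql : IsPullback i'.left Q.left ((𝟙 G : G ⟶ G) ^ p).left i.left := sq.map (Over.forget _)
  have hQflat : Flat Q.left := MorphismProperty.of_isPullback sql inferInstance
  have hQsurj : Surjective Q.left := MorphismProperty.of_isPullback sql inferInstance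
  obtain ⟨w, hw, how, hcw, -⟩ := h.clopen P i hi
  obtain ⟨w', hw', how', hcw', hrw'⟩ := h'.clopen P' i' hi'
  have hcomm : q ≫ w = w' ≫ Q := by
    rw [← cancel_mono i, Category.assoc, Category.assoc, hw, hQ, hq, MonObj.comp_pow, hw']
  have hcomml : q.left ≫ w.left = w'.left ≫ Q.left := congrArg CommaMorphism.left hcomm
  have hqfin : IsFinite q.left := by
    have : IsFinite (q.left ≫ W.hom) := by rw [Over.w]; infer_instance
    exact IsFinite.of_comp q.left W.hom
  have hqflat : Flat q.left := by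
    have h2 : Flat (q.left ≫ w.left) := by rw [hcomml]; infer_instance
    have h3 : IsPullback (𝟙 W'.left) q.left (q.left ≫ w.left) w.left := by
      refine ⟨⟨by simp⟩, ⟨PullbackCone.IsLimit.mk _ (fun s => s.fst) (fun s => Category.comp_id _) (fun s => ?_)
        (fun s t ht _ => by rw [← ht, Category.comp_id])⟩⟩
      rw [← cancel_mono w.left, Category.assoc, ← s.condition]
    exact MorphismProperty.of_isPullback h3 h2
  have hqlfp : LocallyOfFinitePresentation q.left := by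
    have : LocallyOfFinitePresentation (q.left ≫ W.hom) := by rw [Over.w]; infer_instance
    exact Groth.Agent.Ega43.FPOfComp.locallyOfFinitePresentation_of_comp q.left W.hom
  refine ⟨hqfin, hqflat, ⟨fun t => ?_⟩, hqlfp⟩
  by_contra ht
  have hopen : IsOpen (Set.range q.left) := by
    have : UniversallyOpen q.left := inferInstance
    exact q.left.isOpenMap.isOpen_range
  have h4 : IsClosed (W.hom.base '' (Set.range q.left)ᶜ) := W.hom.isClosedMap _ hopen.isClosed_compl
  have h5 : (W.hom.base t : Spec (CommRingCat.of R)) ⤳ (IsLocalRing.closedPoint R : PrimeSpectrum R) :=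
    IsLocalRing.specializes_closedPoint (R := R) (W.hom.base t)
  obtain ⟨c, hc, hc'⟩ := h5.mem_closed h4 ⟨t, fun ⟨x, hx⟩ => ht ⟨x, hx⟩, rfl⟩
  obtain ⟨x, hx⟩ := hQsurj.surj (w.left c)
  have h6 : P'.hom.base x = IsLocalRing.closedPoint R := by
    have h7 : Q.left ≫ P.hom = P'.hom := Over.w Q
    have h8 : w.left ≫ P.hom = W.hom := Over.w w
    have h9 : P'.hom.base x = P.hom.base (Q.left x) := by rw [← h7]; rfl
    have h10 : W.hom.base c = P.hom.base (w.left c) := by rw [← h8]; rfl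
    rw [h9, hx, ← h10, hc']
  obtain ⟨x', rfl⟩ := hrw' x h6
  apply hc
  refine ⟨x', ?_⟩
  apply w.left.isOpenEmbedding.injective
  have h11 : (q.left ≫ w.left) x' = (w'.left ≫ Q.left) x' := by rw [hcomml]
  exact h11.trans hx

/-- the degree of `p : W' → W`. -/
theorem isFinLocFreeOfDeg_proj {p d : ℕ} [IsCommMonObj G] [IsCommMonObj W'] [Flat ((𝟙 G : G ⟶ G) ^ p).left]
    [Surjective ((𝟙 G : G ⟶ G) ^ p).left] [LocallyOfFinitePresentation W.hom] [LocallyOfFinitePresentation W'.hom]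
    {W₁ : Over (Spec (CommRingCat.of R))} [GrpObj W₁] {j₁ : W₁ ⟶ G}
    (h₁ : IsFinPart G W₁ p j₁) (hd : Mor2.IsFinLocFreeOfDeg d W₁.hom)
    (h : IsFinPart G W m j) (h' : IsFinPart G W' (m * p) j') (q : W' ⟶ W) (hq : q ≫ j = j' ^ p)
    [IsMonHom q] (a : W₁ ⟶ W') (ha : a ≫ j' = j₁) : Mor2.IsFinLocFreeOfDeg d q.left := by
  obtain ⟨k1, k2, k3, k4⟩ := flat_surjective_proj h h' q hq
  have hk := isKernel_proj h₁ h h' a ha q hq
  obtain ⟨⟨hK1, hK2, hK3⟩, hK4⟩ := hd
  have sq : IsPullback ((a ▷ W') ≫ μ[W']).left (snd W₁ W').left q.left q.left :=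
    (K787.BTKer.isPullback_of_isKernel hk).map (Over.forget _)
  refine Groth.Agent.Picfga.FiniteDescent.isFinLocFreeOfDeg_of_isPullback sq.flip ?_
  have sq2 : IsPullback (fst W₁ W').left (snd W₁ W').left W₁.hom W'.hom := IsPullback.of_hasPullback W₁.hom W'.hom
  refine ⟨⟨MorphismProperty.of_isPullback (P := @IsFinite) sq2 hK1,
    MorphismProperty.of_isPullback (P := @Flat) sq2 hK2,
    MorphismProperty.of_isPullback (P := @LocallyOfFinitePresentation) sq2 hK3⟩, fun y => ?_⟩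
  have := Scheme.Hom.finrank_of_isPullback _ _ _ _ sq2 y
  exact this.trans (hK4 _)

theorem isFinLocFreeOfDeg_comp {d e : ℕ} {W W' : Over (Spec (CommRingCat.of R))} (q : W' ⟶ W)
    (hq : Mor2.IsFinLocFreeOfDeg d q.left) (hW : Mor2.IsFinLocFreeOfDeg e W.hom) :
    Mor2.IsFinLocFreeOfDeg (d * e) W'.hom := by
  obtain ⟨⟨hK1, hK2, hK3⟩, hK4⟩ := hq
  obtain ⟨⟨hB1, hB2, hB3⟩, hB4⟩ := hW
  have h1 : W'.hom = q.left ≫ W.hom := (Over.w q).symm
  rw [h1]
  exact ⟨⟨inferInstance, inferInstance, inferInstance⟩, fun y => by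
    rw [Groth.Agent.Etdl.H427.RankComp.finrank_comp q.left W.hom d hK4 y, hB4]⟩

end Trans

end K751.Fin
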