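import Groth.Agent.BTGrp.K787.Kernel
import Groth.Agent.Hensel.K144.FinExist
import Groth.Agent.Hensel.K144.FinPart
import Groth.Agent.RedSub.K199.PullGrp
import Groth.Agent.Sga3B.KerGrp
import Groth.Prelude.Def_BT
import Groth.Prelude.Def_SGA7IX
import Mathlib.RingTheory.Henselian

/-!
# The finite part of the `m`-torsion of a group scheme over a henselian local ring
-/

set_option autoImplicit false
set_option linter.unusedSectionVars false
universe u

open CategoryTheory CategoryTheory.Limits MonoidalCategory CartesianMonoidalCategory MonObj GrpObj AlgebraicGeometry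

namespace K751.Fin

open Groth.Agent

/-- `W` with `j : W → G` is the finite part of the kernel of the `m`-th power map of `G`. -/
structure IsFinPart {R : Type u} [CommRing R] [IsLocalRing R] (G W : Over (Spec (CommRingCat.of R))) [GrpObj G]
    [GrpObj W] (m : ℕ) (j : W ⟶ G) : Prop where
  hom : IsMonHom j
  mono : Mono j
  fin : IsFinite W.hom
  flat : Flat W.hom
  pow : j ^ m = 1
  lift : ∀ T : Over (Spec (CommRingCat.of R)), IsClosedMap T.hom.base → ∀ x : T ⟶ G, x ^ m = 1 →
    ∃ y : T ⟶ W, y ≫ j = x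
  clopen : ∀ (P : Over (Spec (CommRingCat.of R))) (i : P ⟶ G), AlgGrp.IsKernel i ((𝟙 G) ^ m) →
    ∃ w : W ⟶ P, w ≫ i = j ∧ IsOpenImmersion w.left ∧ IsClosedImmersion w.left ∧
      ∀ x : P.left, P.hom.base x = IsLocalRing.closedPoint R → x ∈ Set.range w.left.base

section Gen

variable {C : Type*} [Category C] [CartesianMonoidalCategory C] [BraidedCategory C]

theorem isComm_of_mono {W G : C} [GrpObj W] [GrpObj G] [IsCommMonObj G] (j : W ⟶ G) [IsMonHom j] [Mono j] :
    IsCommMonObj W where
  mul_comm := by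
    rw [← cancel_mono j, Category.assoc, IsMonHom.mul_hom, ← Category.assoc, ← BraidedCategory.braiding_naturality,
      Category.assoc, IsCommMonObj.mul_comm]

end Gen

section Exists

variable {R : Type u} [CommRing R] [IsLocalRing R] {G : Over (Spec (CommRingCat.of R))} [GrpObj G]

theorem comp_pow_id {T : Over (Spec (CommRingCat.of R))} (x : T ⟶ G) (n : ℕ) : x ≫ (𝟙 G) ^ n = x ^ n :=
  K787.BTKer.comp_pow_id x n

theorem comp_pow_eq_one {T V : Over (Spec (CommRingCat.of R))} (x : T ⟶ V) (j : V ⟶ G) (m : ℕ) (h : j ^ m = 1) :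
    (x ≫ j) ^ m = 1 := by
  rw [← MonObj.comp_pow, h, MonObj.comp_one]

/-- Construction of the finite part from the finite part of the kernel. -/
theorem exists_of_open [IsCommMonObj G] (m : ℕ) [Flat ((𝟙 G : G ⟶ G) ^ m).left]
    {P : Over (Spec (CommRingCat.of R))} (i : P ⟶ G) (hi : AlgGrp.IsKernel i ((𝟙 G : G ⟶ G) ^ m))
    (W : P.left.Opens) (hW1 : IsClosed (W : Set P.left)) (hW2 : IsFinite (W.ι ≫ P.hom))
    (hW3 : ∀ x : P.left, P.hom.base x = IsLocalRing.closedPoint R → x ∈ W) :
    ∃ (W : Over (Spec (CommRingCat.of R))) (_ : GrpObj W) (_ : IsCommMonObj W) (j : W ⟶ G), IsFinPart G W m j := by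
  have hmi : Mono i := K787.BTKer.mono_of_isKernel hi
  let V : Over (Spec (CommRingCat.of R)) := Over.mk (W.ι ≫ P.hom)
  let w : V ⟶ P := Over.homMk W.ι rfl
  have hwl : w.left = W.ι := rfl
  have hmw : Mono w := by
    have : Mono w.left := inferInstanceAs (Mono W.ι)
    exact Over.mono_of_mono_left w
  let j : V ⟶ G := w ≫ i
  have hmj : Mono j := mono_comp w i
  have hfinV : IsFinite V.hom := hW2
  have hpowj : j ^ m = 1 := by
    have := K787.BTKer.comp_eq_one hi
    rw [comp_pow_id] at this
    change (w ≫ i) ^ m = 1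
    rw [← MonObj.comp_pow, this, MonObj.comp_one]
  -- the lifting property
  have hlift : ∀ T : Over (Spec (CommRingCat.of R)), IsClosedMap T.hom.base → ∀ x : T ⟶ G, x ^ m = 1 →
      ∃ y : T ⟶ V, y ≫ j = x := by
    intro T hT x hx
    obtain ⟨y, hy⟩ := K787.BTKer.exists_lift hi x (by rw [comp_pow_id]; exact hx)
    have hr : Set.range y.left ⊆ Set.range W.ι := by
      rintro _ ⟨t, rfl⟩
      rw [Scheme.Opens.range_ι]
      exact K144.FinPart.mem_of_isClosedMap T.hom hT y.left P.hom (Over.w y) W hW3 t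
    let z : T.left ⟶ V.left := IsOpenImmersion.lift W.ι y.left hr
    have hz : z ≫ W.ι = y.left := IsOpenImmersion.lift_fac _ _ _
    refine ⟨Over.homMk z ?_, ?_⟩
    · change z ≫ W.ι ≫ P.hom = T.hom
      rw [← Category.assoc, hz, Over.w]
    · rw [← hy]
      change Over.homMk z _ ≫ w ≫ i = y ≫ i
      rw [← Category.assoc]
      congr 1
      ext1
      exact hz
  have hfinVV : IsFinite (V ⊗ V).hom := by
    have h1 : (V ⊗ V).hom = pullback.fst V.hom V.hom ≫ V.hom := rfl
    rw [h1]; infer_instance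
  have hgrp : ∃ _ : GrpObj V, IsMonHom j := by
    apply Sga3C.SubGrp.exists_grpObj_of_mono
    · apply hlift _ (V ⊗ V).hom.isClosedMap
      have h2 : (j ⊗ₘ j) ≫ μ[G] = (fst V V ≫ j) * (snd V V ≫ j) := by
        rw [Hom.mul_def]
        congr 1
      have h3 : ∀ x : V ⊗ V ⟶ V, (x ≫ j) ^ m = 1 := fun x => comp_pow_eq_one x j m hpowj
      rw [h2, mul_pow, h3, h3, _root_.mul_one]
    · apply hlift
      · have h3 : (𝟙_ (Over (Spec (CommRingCat.of R)))).hom = 𝟙 _ := rfl
        rw [h3]
        exact (𝟙 (Spec (CommRingCat.of R)) : Spec (CommRingCat.of R) ⟶ _).isClosedMap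
      · rw [one_eq_one, one_pow]
    · apply hlift _ V.hom.isClosedMap
      have h4 : j ≫ ι[G] = j⁻¹ := (Hom.inv_def _).symm
      rw [h4, inv_pow, hpowj, inv_one]
  obtain ⟨gV, hjm⟩ := hgrp
  have hflatP : Flat P.hom := by
    have h5 : IsPullback i.left (toUnit P).left ((𝟙 G : G ⟶ G) ^ m).left (η[G] : 𝟙_ (Over _) ⟶ G).left :=
      hi.map (Over.forget _)
    have h6 : Flat (toUnit P).left := MorphismProperty.of_isPullback h5 inferInstance
    have h7 : (toUnit P).left = P.hom := by
      have := Over.w (toUnit P)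
      exact (Category.comp_id _).symm.trans this
    rwa [h7] at h6
  refine ⟨V, gV, isComm_of_mono j, j, ⟨hjm, hmj, hfinV, ?_, hpowj, hlift, ?_⟩⟩
  · change Flat (W.ι ≫ P.hom)
    infer_instance
  · intro P' i' hi'
    have hmi' : Mono i' := K787.BTKer.mono_of_isKernel hi'
    obtain ⟨a, ha⟩ := K787.BTKer.exists_lift hi' i (K787.BTKer.comp_eq_one hi)
    obtain ⟨b, hb⟩ := K787.BTKer.exists_lift hi i' (K787.BTKer.comp_eq_one hi')
    have hab : a ≫ b = 𝟙 P := by
      rw [← cancel_mono i, Category.assoc, hb, ha, Category.id_comp]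
    have hba : b ≫ a = 𝟙 P' := by
      rw [← cancel_mono i', Category.assoc, ha, hb, Category.id_comp]
    have hia : IsIso a := ⟨b, hab, hba⟩
    have hial : IsIso a.left := inferInstanceAs (IsIso ((Over.forget _).map a))
    have hcw : IsClosedImmersion w.left := by
      refine IsClosedImmersion.of_isPreimmersion W.ι ?_
      rw [Scheme.Opens.range_ι]
      exact hW1
    have how : IsOpenImmersion w.left := inferInstanceAs (IsOpenImmersion W.ι)
    refine ⟨w ≫ a, ?_, ?_, ?_, ?_⟩
    · rw [Category.assoc, ha]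
    · change IsOpenImmersion (w.left ≫ a.left)
      infer_instance
    · change IsClosedImmersion (w.left ≫ a.left)
      infer_instance
    · intro x hx
      have h8 : b.left x ∈ W := hW3 _ (by
        have h9 := Over.w b
        rw [← hx, ← h9]
        rfl)
      refine ⟨⟨b.left x, h8⟩, ?_⟩
      change a.left (b.left x) = x
      have h10 : b.left ≫ a.left = 𝟙 _ := congrArg CommaMorphism.left hba
      exact congrArg (fun f => f x) h10

end Exists

/-- Existence of the finite part. -/
theorem exists_finPart {R : Type u} [CommRing R] [HenselianLocalRing R] {G : Over (Spec (CommRingCat.of R))}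
    [GrpObj G] [IsCommMonObj G] [IsSeparated G.hom] [QuasiCompact G.hom] [LocallyOfFiniteType G.hom] (m : ℕ)
    [Flat ((𝟙 G : G ⟶ G) ^ m).left] [LocallyQuasiFinite ((𝟙 G : G ⟶ G) ^ m).left] :
    ∃ (W : Over (Spec (CommRingCat.of R))) (_ : GrpObj W) (_ : IsCommMonObj W) (j : W ⟶ G), IsFinPart G W m j := by
  let u : G ⟶ G := (𝟙 G) ^ m
  let P := Sga3B.KerGrp.kerObj u
  let i : P ⟶ G := Sga3B.KerGrp.kerι u
  have hi : AlgGrp.IsKernel i u := Sga3B.KerGrp.isPullback_ker u
  have hqc : QuasiCompact u.left := by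
    have : QuasiCompact (u.left ≫ G.hom) := by rw [Over.w]; infer_instance
    exact QuasiCompact.of_comp u.left G.hom
  have h1 : LocallyQuasiFinite P.hom :=
    inferInstanceAs (LocallyQuasiFinite (pullback.snd u.left (η[G] : 𝟙_ (Over _) ⟶ G).left))
  have h2 : QuasiCompact P.hom := inferInstanceAs (QuasiCompact (pullback.snd u.left (η[G] : 𝟙_ (Over _) ⟶ G).left))
  have h3 : IsSeparated P.hom := by
    have : IsClosedImmersion i.left := inferInstance
    rw [← Over.w i]; infer_instance
  have h4 : LocallyOfFiniteType P.hom := by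
    have : IsClosedImmersion i.left := inferInstance
    rw [← Over.w i]; infer_instance
  obtain ⟨W, hW1, hW2, hW3⟩ := K144.FinExist.exists_finite_part R P.hom
  exact exists_of_open m i hi W hW1 hW2 hW3

end K751.Fin
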