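import Groth.Agent.SGA7.K751.FinBT
import Groth.Agent.Ega43.FPOfComp

/-!
# Orders in extensions: an inequality
-/

set_option autoImplicit false
set_option linter.unusedSectionVars false
universe u

open CategoryTheory CategoryTheory.Limits MonoidalCategory CartesianMonoidalCategory MonObj GrpObj AlgebraicGeometry

namespace K751.Fin

open Groth.Agent

/-- a closed subscheme of a finite scheme over a field has smaller degree. -/
theorem finrank_le_of_isClosedImmersion {k : Type u} [Field k] {X Y : Scheme.{u}} (i : X ⟶ Y)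
    (g : Y ⟶ Spec (CommRingCat.of k)) [IsClosedImmersion i] [IsFinite g] (s : Spec (CommRingCat.of k)) :
    (i ≫ g).finrank s ≤ g.finrank s := by
  wlog hY : ∃ B, Y = Spec B generalizing Y
  · have _ : IsAffine Y := isAffine_of_isAffineHom g
    have e : (i ≫ Y.isoSpec.hom) ≫ Y.isoSpec.inv ≫ g = i ≫ g := by simp
    have h1 := this (i ≫ Y.isoSpec.hom) (Y.isoSpec.inv ≫ g) ⟨_, rfl⟩
    have f1 : Flat g := inferInstance
    rw [e, Scheme.Hom.finrank_comp_left_of_isIso Y.isoSpec.inv g] at h1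
    exact h1
  obtain ⟨B, rfl⟩ := hY
  wlog hX : ∃ C, X = Spec C generalizing X
  · have _ : IsAffine X := isAffine_of_isAffineHom i
    have f1 : Flat (i ≫ g) := inferInstance
    have h1 := this (X.isoSpec.inv ≫ i) ⟨_, rfl⟩
    rw [Category.assoc, Scheme.Hom.finrank_comp_left_of_isIso X.isoSpec.inv (i ≫ g)] at h1
    exact h1
  obtain ⟨C, rfl⟩ := hX
  obtain ⟨φ, rfl⟩ := Spec.map_surjective i
  obtain ⟨ψ, rfl⟩ := Spec.map_surjective g
  have hs : Function.Surjective φ.hom := K787.BTKer.surjective_of_isClosedImmersion φ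
  have h3 : IsFinite (Spec.map φ ≫ Spec.map ψ) := inferInstance
  rw [← Spec.map_comp] at h3
  algebraize [φ.hom, ψ.hom, φ.hom.comp ψ.hom]
  have f2 : Module.Finite k B := (IsFinite.SpecMap_iff ψ).1 inferInstance
  have f3 : Module.Finite k C := (IsFinite.SpecMap_iff _).1 h3
  have e2 : Spec.map ψ = Spec.map (CommRingCat.ofHom (algebraMap k B)) := rfl
  have e3 : Spec.map φ ≫ Spec.map ψ = Spec.map (CommRingCat.ofHom (algebraMap k C)) := by
    rw [← Spec.map_comp]; rfl
  rw [e3, e2, Scheme.Hom.finrank_SpecMap_algebraMap, Scheme.Hom.finrank_SpecMap_algebraMap,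
    Module.rankAtStalk_eq_finrank_of_free, Module.rankAtStalk_eq_finrank_of_free]
  let L : B →ₗ[k] C := (Algebra.linearMap B C).restrictScalars k
  have hL : Function.Surjective L := hs
  exact LinearMap.finrank_le_finrank_of_surjective (f := L) hL

/-- the order of the source of a homomorphism is at most the product of the orders of the kernel and the target. -/
theorem deg_le_of_isKernel {k : Type u} [Field k] {K A B : Over (Spec (CommRingCat.of k))} [GrpObj A] [GrpObj B]
    (κ : K ⟶ A) (f : A ⟶ B) [IsMonHom f] (hk : AlgGrp.IsKernel κ f) {n a b : ℕ}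
    (hK : Mor2.IsFinLocFreeOfDeg n K.hom) (hA : Mor2.IsFinLocFreeOfDeg a A.hom)
    (hB : Mor2.IsFinLocFreeOfDeg b B.hom) : a ≤ n * b := by
  obtain ⟨⟨hA1, hA2, hA3⟩, hA4⟩ := hA
  obtain ⟨⟨hB1, hB2, hB3⟩, hB4⟩ := hB
  obtain ⟨⟨hK1, hK2, hK3⟩, hK4⟩ := hK
  -- the kernel is flat
  let e : pullback f η[B] ≅ K := (IsPullback.of_hasPullback f (η[B] : 𝟙_ (Over _) ⟶ B)).isoIsPullback _ _ hk
  have hKf : Flat (pullback f η[B]).hom := by
    rw [← Over.w e.hom]
    have : IsIso e.hom.left := inferInstanceAs (IsIso ((Over.forget _).map e.hom))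
    exact MorphismProperty.comp_mem @Flat _ _ inferInstance hK2
  obtain ⟨Q, gQ, p, i, hp, hi, hpi, hps, hpf, hpl, him, hQl, hker⟩ :=
    Groth.Agent.S4094.result _ A B f hKf
  have hkp : AlgGrp.IsKernel κ p := by
    have hik := hk
    apply IsPullback.of_iso hker e (Iso.refl _) (Iso.refl _) (Iso.refl _)
    · exact (Category.comp_id _).trans
        ((IsPullback.of_hasPullback f (η[B] : 𝟙_ (Over _) ⟶ B)).isoIsPullback_hom_fst _ _ hk).symm
    · exact toUnit_unique _ _
    · simp
    · simp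
  have hil : Mono i.left := inferInstance
  have hQsep : IsSeparated Q.hom := by
    rw [← Over.w i]
    infer_instance
  have hpq : QuasiCompact p.left := by
    have : QuasiCompact (p.left ≫ Q.hom) := by rw [Over.w]; infer_instance
    exact QuasiCompact.of_comp p.left Q.hom
  -- the degree of `p`
  have hpdeg : Mor2.IsFinLocFreeOfDeg n p.left := by
    have sq : IsPullback ((κ ▷ A) ≫ μ[A]).left (snd K A).left p.left p.left :=
      (K787.BTKer.isPullback_of_isKernel hkp).map (Over.forget _)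
    refine Groth.Agent.Picfga.FiniteDescent.isFinLocFreeOfDeg_of_isPullback sq.flip ?_
    have sq2 : IsPullback (fst K A).left (snd K A).left K.hom A.hom := IsPullback.of_hasPullback K.hom A.hom
    refine ⟨⟨MorphismProperty.of_isPullback (P := @IsFinite) sq2 hK1,
      MorphismProperty.of_isPullback (P := @Flat) sq2 hK2,
      MorphismProperty.of_isPullback (P := @LocallyOfFinitePresentation) sq2 hK3⟩, fun y => ?_⟩
    have := Scheme.Hom.finrank_of_isPullback _ _ _ _ sq2 y
    exact this.trans (hK4 _)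
  obtain ⟨⟨hp1, hp2, hp3⟩, hp4⟩ := hpdeg
  have hQuc : UniversallyClosed Q.hom := by
    have : UniversallyClosed (p.left ≫ Q.hom) := by rw [Over.w]; infer_instance
    exact UniversallyClosed.of_comp_surjective p.left Q.hom
  have hQqc : QuasiCompact Q.hom := inferInstance
  have hQp : IsProper Q.hom := ⟨⟩
  have hip : IsProper i.left := by
    have : IsProper (i.left ≫ B.hom) := by rw [Over.w]; infer_instance
    exact IsProper.of_comp i.left B.hom
  have hic : IsClosedImmersion i.left := (IsClosedImmersion.iff_isProper_and_mono _).2 ⟨hip, hil⟩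
  have hQfin : IsFinite Q.hom := by rw [← Over.w i]; infer_instance
  have hQflat : Flat Q.hom := inferInstance
  have z : Spec (CommRingCat.of k) := Classical.arbitrary _
  have h1 := Groth.Agent.Etdl.H427.RankComp.finrank_comp p.left Q.hom n hp4 z
  rw [Over.w, hA4] at h1
  have h2 := finrank_le_of_isClosedImmersion i.left B.hom z
  rw [Over.w, hB4] at h2
  rw [h1]
  exact Nat.mul_le_mul_left n h2

/-- orders of torsion in an extension. -/
theorem deg_torsion_le {k : Type u} [Field k] {T H Q N1 N2 N3 : Over (Spec (CommRingCat.of k))} [GrpObj T]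
    [GrpObj H] [GrpObj Q] (i : T ⟶ H) [IsMonHom i] (q : H ⟶ Q) [IsMonHom q] (hker : AlgGrp.IsKernel i q)
    (n : ℕ) (i1 : N1 ⟶ T) (h1 : AlgGrp.IsKernel i1 ((𝟙 T : T ⟶ T) ^ n)) (i2 : N2 ⟶ H) [GrpObj N2] [IsMonHom i2]
    (h2 : AlgGrp.IsKernel i2 ((𝟙 H : H ⟶ H) ^ n)) (i3 : N3 ⟶ Q) [GrpObj N3] [IsMonHom i3]
    (h3 : AlgGrp.IsKernel i3 ((𝟙 Q : Q ⟶ Q) ^ n)) {a b c : ℕ} (ha : Mor2.IsFinLocFreeOfDeg a N1.hom)
    (hb : Mor2.IsFinLocFreeOfDeg b N2.hom) (hc : Mor2.IsFinLocFreeOfDeg c N3.hom) : b ≤ a * c := by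
  have hi : Mono i := K787.BTKer.mono_of_isKernel hker
  have hi1 : Mono i1 := K787.BTKer.mono_of_isKernel h1
  have hi2 : Mono i2 := K787.BTKer.mono_of_isKernel h2
  have hi3 : Mono i3 := K787.BTKer.mono_of_isKernel h3
  have e1 : i1 ^ n = 1 := by have := K787.BTKer.comp_eq_one h1; rwa [K787.BTKer.comp_pow_id] at this
  have e2 : i2 ^ n = 1 := by have := K787.BTKer.comp_eq_one h2; rwa [K787.BTKer.comp_pow_id] at this
  have hiq : i ≫ q = 1 := K787.BTKer.comp_eq_one hker
  obtain ⟨f, hf⟩ := K787.BTKer.exists_lift h3 (i2 ≫ q) (by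
    rw [K787.BTKer.comp_pow_id, ← MonObj.pow_comp, e2, MonObj.one_comp])
  obtain ⟨κ, hκ⟩ := K787.BTKer.exists_lift h2 (i1 ≫ i) (by
    rw [K787.BTKer.comp_pow_id, ← MonObj.pow_comp, e1, MonObj.one_comp])
  have hfm : IsMonHom f := isMonHom_of_comp i3 f (by rw [hf]; infer_instance)
  have hmκ : Mono κ := by
    have : Mono (κ ≫ i2) := by rw [hκ]; exact mono_comp i1 i
    exact mono_of_mono κ i2
  refine deg_le_of_isKernel κ f ?_ ha hb hc
  apply K787.BTKer.isKernel_of_points
  · rw [← cancel_mono i3, Category.assoc, hf, ← Category.assoc, hκ, Category.assoc, hiq, MonObj.comp_one,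
      MonObj.one_comp]
  · intro X x hx
    have e3 : (x ≫ i2) ≫ q = 1 := by
      rw [Category.assoc, ← hf, ← Category.assoc, hx, MonObj.one_comp]
    obtain ⟨y, hy⟩ := K787.BTKer.exists_lift hker (x ≫ i2) e3
    have e4 : y ^ n = 1 := by
      rw [← cancel_mono i, MonObj.pow_comp, hy, MonObj.one_comp, ← MonObj.comp_pow, e2, MonObj.comp_one]
    obtain ⟨w, hw⟩ := K787.BTKer.exists_lift h1 y (by rw [K787.BTKer.comp_pow_id]; exact e4)
    refine ⟨w, ?_⟩
    rw [← cancel_mono i2, Category.assoc, hκ, ← Category.assoc, hw, hy]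

end K751.Fin
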