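import Groth.Agent.SGA7.K751.FinBT
import Groth.Agent.S0353
import Groth.Agent.WittGrp.K719.GrpHom
import Groth.Agent.NeronHD.K776.SmoothLqf
import Groth.Agent.UnramA.FiniteEtaleCount
import Mathlib.GroupTheory.PGroup

/-!
# Orders of finite flat group schemes in generic characteristic zero; the Barsotti-Tate group of finite parts
-/

set_option autoImplicit false
set_option linter.unusedSectionVars false
universe u

open CategoryTheory CategoryTheory.Limits MonoidalCategory CartesianMonoidalCategory MonObj GrpObj AlgebraicGeometry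

namespace K751.Fin

open Groth.Agent

/-- the degree of a finite flat scheme over a Noetherian domain is constant. -/
theorem exists_deg {R : Type u} [CommRing R] [IsDomain R] [IsNoetherianRing R] (W : Over (Spec (CommRingCat.of R)))
    [IsFinite W.hom] [Flat W.hom] : ∃ d : ℕ, Mor2.IsFinLocFreeOfDeg d W.hom := by
  have h1 : LocallyOfFinitePresentation W.hom := inferInstance
  have h2 := Scheme.Hom.isLocallyConstant_finrank W.hom
  have h3 : PreconnectedSpace (Spec (CommRingCat.of R)) := inferInstance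
  have z : Spec (CommRingCat.of R) := Classical.arbitrary _
  exact ⟨W.hom.finrank z, ⟨inferInstance, inferInstance, inferInstance⟩, fun y => h2.apply_eq_of_preconnectedSpace y z⟩

/-- the number of points over an algebraically closed field of characteristic zero. -/
theorem card_pts {S : Scheme.{u}} (W : Over S) [GrpObj W] [IsFinite W.hom] [Flat W.hom] {Ω : Type u} [Field Ω]
    [IsAlgClosed Ω] [CharZero Ω] (t : Spec (CommRingCat.of Ω) ⟶ S) (z : Spec (CommRingCat.of Ω)) :
    Nat.card (Over.mk t ⟶ W) = W.hom.finrank (t z) := by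
  have h1 : IsFinite (Red.bc t W).hom := inferInstanceAs (IsFinite (pullback.snd W.hom t))
  have h2 : Flat (Red.bc t W).hom := inferInstanceAs (Flat (pullback.snd W.hom t))
  have h3 : Smooth (Red.bc t W).hom := Groth.Agent.S0353.result Ω (Red.bc t W)
  have h4 : Etale (Red.bc t W).hom := K776.SmoothLqf.etale_of_smooth_of_locallyQuasiFinite _
  have h5 := Groth.Agent.UnramA.FiniteEtaleCount.card_sections (Red.bc t W).hom z
  have h6 : (Red.bc t W).hom.finrank z = W.hom.finrank (t z) := Scheme.Hom.finrank_pullback_snd W.hom t z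
  rw [← h6, ← h5]
  refine Nat.card_congr
    { toFun := fun x => ⟨pullback.lift x.left (𝟙 _) (by rw [Category.id_comp]; exact Over.w x),
        pullback.lift_snd _ _ _⟩
      invFun := fun s => Over.homMk (s.1 ≫ pullback.fst W.hom t) (by
        have h7 : s.1 ≫ pullback.snd W.hom t = 𝟙 _ := s.2
        change (s.1 ≫ pullback.fst W.hom t) ≫ W.hom = t
        rw [Category.assoc, pullback.condition, reassoc_of% h7])
      left_inv := fun x => Over.OverMorphism.ext (pullback.lift_fst _ _ _)
      right_inv := fun s => Subtype.ext (pullback.hom_ext (pullback.lift_fst _ _ _) (by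
        rw [pullback.lift_snd]; exact s.2.symm)) }

/-- the order of a finite flat group scheme killed by `p` is a power of `p`. -/
theorem exists_deg_eq_pow {R : Type u} [CommRing R] [IsDomain R] [IsNoetherianRing R] (K : Type u) [Field K]
    [Algebra R K] [CharZero K] (p : ℕ) [Fact p.Prime] (W : Over (Spec (CommRingCat.of R))) [GrpObj W]
    [IsFinite W.hom] [Flat W.hom] (hp : (𝟙 W) ^ p = 1) : ∃ h : ℕ, Mor2.IsFinLocFreeOfDeg (p ^ h) W.hom := by
  obtain ⟨d, hd⟩ := exists_deg W
  let Ω := AlgebraicClosure K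
  have hch : CharZero Ω := charZero_of_injective_algebraMap (algebraMap K Ω).injective
  let t : Spec (CommRingCat.of Ω) ⟶ Spec (CommRingCat.of R) :=
    Spec.map (CommRingCat.ofHom ((algebraMap K Ω).comp (algebraMap R K)))
  have z : Spec (CommRingCat.of Ω) := Classical.arbitrary _
  have h1 := card_pts W t z
  rw [hd.2] at h1
  have hd0 : 1 ≤ d := by
    rw [← hd.2 (t z)]
    have h8 : (t z) = W.hom ((η[W] : 𝟙_ (Over _) ⟶ W).left (t z)) := by
      have h9 : (η[W] : 𝟙_ (Over _) ⟶ W).left ≫ W.hom = 𝟙 _ := Over.w (η[W] : 𝟙_ (Over _) ⟶ W)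
      have h10 : W.hom ((η[W] : 𝟙_ (Over _) ⟶ W).left (t z)) =
        ((η[W] : 𝟙_ (Over _) ⟶ W).left ≫ W.hom) (t z) := rfl
      rw [h10, h9]; rfl
    rw [h8]
    exact Scheme.Hom.one_le_finrank_map (f := W.hom) _
  have hfin : Finite (Over.mk t ⟶ W) := Nat.finite_of_card_ne_zero (by omega)
  have hpg : IsPGroup p (Over.mk t ⟶ W) := fun x => ⟨1, by
    rw [pow_one, ← K787.BTKer.comp_pow_id, hp, MonObj.comp_one]⟩
  obtain ⟨h, hh⟩ := IsPGroup.iff_card.mp hpg
  refine ⟨h, ?_⟩
  rw [← hh, h1]
  exact hd

section Main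

variable {R : Type u} [CommRing R] [IsDomain R] [IsNoetherianRing R] [HenselianLocalRing R]

/-- **FIN**, abstract form: the finite parts of the `p^n`-torsion form a Barsotti-Tate group. -/
theorem exists_proBT_of (K : Type u) [Field K] [Algebra R K] [CharZero K] (G : Over (Spec (CommRingCat.of R)))
    [GrpObj G] [IsCommMonObj G] [IsSeparated G.hom] [QuasiCompact G.hom] [LocallyOfFiniteType G.hom] (p : ℕ) [Fact p.Prime]
    (hfl : ∀ n, Flat ((𝟙 G : G ⟶ G) ^ p ^ n).left) (hqf : ∀ n, LocallyQuasiFinite ((𝟙 G : G ⟶ G) ^ p ^ n).left)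
    (hs : Surjective ((𝟙 G : G ⟶ G) ^ p).left) :
    ∃ (h : ℕ) (W : BTGrp.ProBT p (Spec (CommRingCat.of R)) h) (j : ∀ n, W.G n ⟶ G),
      (∀ n, IsFinPart G (W.G n) (p ^ n) (j n)) ∧ (∀ n, W.incl n ≫ j (n + 1) = j n) ∧
      (∀ n, W.proj n ≫ j n = (j (n + 1)) ^ p) := by
  choose W gW cW j hj using fun n => exists_finPart (G := G) (p ^ n)
  have hfin := fun n => (hj n).fin
  have hflat := fun n => (hj n).flat
  have hmon := fun n => (hj n).mono
  have hhom := fun n => (hj n).hom
  have hflp : Flat ((𝟙 G : G ⟶ G) ^ p).left := by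
    have := hfl 1; rwa [pow_one] at this
  have hlfp : ∀ n, LocallyOfFinitePresentation (W n).hom := fun n => inferInstance
  -- transition maps
  choose incl hincl using fun n => (hj (n + 1)).lift (W n) (W n).hom.isClosedMap (j n) (by
    rw [pow_succ, pow_mul, (hj n).pow, one_pow])
  choose proj hproj using fun n => (hj n).lift (W (n + 1)) (W (n + 1)).hom.isClosedMap (j (n + 1) ^ p) (by
    rw [← pow_mul, ← pow_succ', (hj (n + 1)).pow])
  have hinclm : ∀ n, IsMonHom (incl n) := fun n => isMonHom_of_comp (j (n + 1)) (incl n) (by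
    rw [hincl]; infer_instance)
  have hprojm : ∀ n, IsMonHom (proj n) := fun n => isMonHom_of_comp (j n) (proj n) (by
    rw [hproj]
    exact K719.GrpHom.isMonHom_pow (j (n + 1)) p)
  have hj1 : IsFinPart G (W 1) p (j 1) := by
    have := hj 1
    rwa [pow_one] at this
  -- the order of `W 1`
  obtain ⟨h, hh⟩ := exists_deg_eq_pow (R := R) K p (W 1) (by
    rw [← cancel_mono (j 1), comp_pow_eq, Category.id_comp, hj1.pow, MonObj.one_comp])
  -- iterated inclusions
  have hiter : ∀ n, ∃ a : W 1 ⟶ W (n + 1), a ≫ j (n + 1) = j 1 := fun n =>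
    (hj (n + 1)).lift (W 1) (W 1).hom.isClosedMap (j 1) (by
      rw [pow_succ', pow_mul, hj1.pow, one_pow])
  have hdeg : ∀ n, Mor2.IsFinLocFreeOfDeg (p ^ (n * h)) (W n).hom := by
    intro n
    induction n with
    | zero =>
      rw [zero_mul, pow_zero]
      have h1 : j 0 = 1 := by
        have := (hj 0).pow
        rwa [pow_zero, pow_one] at this
      have h2 : toUnit (W 0) ≫ η[W 0] = 𝟙 (W 0) := by
        rw [← cancel_mono (j 0), Category.id_comp, Category.assoc, IsMonHom.one_hom, h1, Hom.one_def]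
      have h3 : IsIso (toUnit (W 0)) := ⟨η[W 0], h2, toUnit_unique _ _⟩
      have h4 : IsIso (toUnit (W 0)).left := inferInstanceAs (IsIso ((Over.forget _).map (toUnit (W 0))))
      have h5 : (toUnit (W 0)).left = (W 0).hom := by
        have := Over.w (toUnit (W 0))
        exact (Category.comp_id _).symm.trans this
      rw [h5] at h4
      refine ⟨⟨inferInstance, inferInstance, inferInstance⟩, fun y => ?_⟩
      rw [Scheme.Hom.finrank_eq_one_of_isIso]
      rfl
    | succ n ih =>
      obtain ⟨a, ha⟩ := hiter n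
      have h6 : IsFinPart G (W (n + 1)) (p ^ n * p) (j (n + 1)) := by
        rw [← pow_succ]; exact hj (n + 1)
      have h7 := isFinLocFreeOfDeg_proj hj1 hh (hj n) h6 (proj n) (hproj n) a ha
      have h8 := isFinLocFreeOfDeg_comp (proj n) h7 ih
      have h9 : p ^ h * p ^ (n * h) = p ^ ((n + 1) * h) := by
        rw [← pow_add]; congr 1; ring
      rwa [h9] at h8
  refine ⟨h, ⟨W, incl, proj, hdeg, fun n => ?_, fun n => ?_, fun n => ?_⟩, j, hj, hincl, hproj⟩
  · rw [← cancel_mono (j n), Category.assoc, hproj, MonObj.comp_pow, hincl, comp_pow_eq, Category.id_comp]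
  · rw [← cancel_mono (j (n + 1)), Category.assoc, hincl, hproj, comp_pow_eq, Category.id_comp]
  · exact isKernel_of_comp (hj n) (hj (n + 1)) (incl n) (hincl n)

end Main

end K751.Fin
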