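import Groth.Agent.SGA7.K751.FinDeg
import Groth.Agent.SGA7.K751.FinEnd
import Groth.Agent.S4059

/-!
# The Barsotti-Tate group of finite parts of a semiabelian model over a henselian discrete valuation ring
-/

set_option autoImplicit false
universe u

open CategoryTheory CategoryTheory.Limits MonoidalCategory CartesianMonoidalCategory MonObj GrpObj AlgebraicGeometry

namespace K751.Fin

open Groth.Agent

/-- multiplication by a positive integer is flat, surjective and locally quasi-finite. -/
theorem pow_flat_surj_lqf (R K : Type u) [CommRing R] [IsDomain R] [IsDiscreteValuationRing R] [Field K]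
    [Algebra R K] [IsFractionRing R K] (G : Over (Spec (CommRingCat.of R))) [GrpObj G] [Smooth G.hom]
    [IsSeparated G.hom] [QuasiCompact G.hom] (hirr : ∀ s, IsIrreducible (G.hom ⁻¹' {s}))
    [IsProper ((SGA7.genFib R K).obj G).hom] [GeometricallyIntegral ((SGA7.genFib R K).obj G).hom]
    (hGa : SGA7.FibreUnipotentRankZero (IsLocalRing.closedPoint R) G) (m : ℕ) (hm : 0 < m) :
    Flat ((𝟙 G : G ⟶ G) ^ m).left ∧ Surjective ((𝟙 G : G ⟶ G) ^ m).left ∧
      LocallyQuasiFinite ((𝟙 G : G ⟶ G) ^ m).left := by
  have h := S4059.result R K G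
    (fun s => connectedSpace_pullback G hirr ((Spec (CommRingCat.of R)).fromSpecResidueField s)) m hm
  refine ⟨(h.out 0 3).mpr (Or.inr hGa), (h.out 1 3).mpr (Or.inr hGa), (h.out 2 3).mpr (Or.inr hGa)⟩

/-- **FIN**: the finite parts of the `p^n`-torsion of a smooth separated model with irreducible fibres of an abelian
variety, without additive subgroups in the geometric special fibre, over a henselian discrete valuation ring of
characteristic zero, form a Barsotti-Tate group. -/
theorem exists_proBT (R K : Type u) [CommRing R] [IsDomain R] [IsDiscreteValuationRing R] [HenselianLocalRing R]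
    [Field K] [Algebra R K] [IsFractionRing R K] [CharZero K] (G : Over (Spec (CommRingCat.of R))) [GrpObj G]
    [IsCommMonObj G] [Smooth G.hom] [IsSeparated G.hom] [QuasiCompact G.hom]
    (hirr : ∀ s, IsIrreducible (G.hom ⁻¹' {s}))
    [IsProper ((SGA7.genFib R K).obj G).hom] [GeometricallyIntegral ((SGA7.genFib R K).obj G).hom]
    (hGa : SGA7.FibreUnipotentRankZero (IsLocalRing.closedPoint R) G) (p : ℕ) [Fact p.Prime] :
    ∃ (h : ℕ) (W : BTGrp.ProBT p (Spec (CommRingCat.of R)) h) (j : ∀ n, W.G n ⟶ G),
      (∀ n, IsFinPart G (W.G n) (p ^ n) (j n)) ∧ (∀ n, W.incl n ≫ j (n + 1) = j n) ∧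
      (∀ n, W.proj n ≫ j n = (j (n + 1)) ^ p) := by
  have hp : 0 < p := (Fact.out : p.Prime).pos
  exact exists_proBT_of K G p (fun n => (pow_flat_surj_lqf R K G hirr hGa (p ^ n) (pow_pos hp n)).1)
    (fun n => (pow_flat_surj_lqf R K G hirr hGa (p ^ n) (pow_pos hp n)).2.2)
    (pow_flat_surj_lqf R K G hirr hGa p hp).2.1

/-- **FIN** with a given isomorphism of the generic fibre with an abelian variety. -/
theorem exists_proBT_iso (R K : Type u) [CommRing R] [IsDomain R] [IsDiscreteValuationRing R] [HenselianLocalRing R]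
    [Field K] [Algebra R K] [IsFractionRing R K] [CharZero K] (A : Over (Spec (CommRingCat.of K))) [IsProper A.hom]
    [GeometricallyIntegral A.hom] (G : Over (Spec (CommRingCat.of R))) [GrpObj G]
    [IsCommMonObj G] [Smooth G.hom] [IsSeparated G.hom] [QuasiCompact G.hom] (e : (SGA7.genFib R K).obj G ≅ A)
    (hirr : ∀ s, IsIrreducible (G.hom ⁻¹' {s}))
    (hGa : SGA7.FibreUnipotentRankZero (IsLocalRing.closedPoint R) G) (p : ℕ) [Fact p.Prime] :
    ∃ (h : ℕ) (W : BTGrp.ProBT p (Spec (CommRingCat.of R)) h) (j : ∀ n, W.G n ⟶ G),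
      (∀ n, IsFinPart G (W.G n) (p ^ n) (j n)) ∧ (∀ n, W.incl n ≫ j (n + 1) = j n) ∧
      (∀ n, W.proj n ≫ j n = (j (n + 1)) ^ p) := by
  have hel : IsIso e.hom.left := inferInstanceAs (IsIso ((Over.forget _).map e.hom))
  have hw : ((SGA7.genFib R K).obj G).hom = e.hom.left ≫ A.hom := (Over.w e.hom).symm
  have h1 : IsProper ((SGA7.genFib R K).obj G).hom := by rw [hw]; infer_instance
  have h2 : GeometricallyIntegral ((SGA7.genFib R K).obj G).hom := by
    rw [hw]
    exact (MorphismProperty.cancel_left_of_respectsIso @GeometricallyIntegral _ _).mpr inferInstance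
  exact exists_proBT R K G hirr hGa p

end K751.Fin
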