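import Mathlib.Algebra.Module.ZMod
import Mathlib.LinearAlgebra.Dimension.Free
import Mathlib.LinearAlgebra.FiniteDimensional.Basic
import Mathlib.FieldTheory.Finiteness
import Mathlib.GroupTheory.Index
import Mathlib.Algebra.BigOperators.Fin
import Mathlib.FieldTheory.Cardinality
import Mathlib.LinearAlgebra.Dimension.Constructions
import Mathlib.LinearAlgebra.Basis.VectorSpace
import Mathlib.LinearAlgebra.FiniteDimensional.Lemmas
import Mathlib.Tactic.Ring
import Mathlib.Algebra.Module.Torsion.Basic

/-!
# Towers of finite commutative groups of Barsotti-Tate type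

`X n` of order `p^(n h)`, `r n : X n → X (n+1)` injective, `s n : X (n+1) → X n` surjective, both composites the
`p`-th power: there are compatible families `e i` (for `s`) generating every `X n`.
-/

set_option autoImplicit false
universe u

namespace K751.Tow

open Module

theorem exists_gen_add (p h : ℕ) [Fact p.Prime] (V : Type u) [AddCommGroup V] [Module (ZMod p) V] [Finite V]
    (hV : Nat.card V = p ^ h) : ∃ e : Fin h → V, ∀ x : V, ∃ a : Fin h → ℕ, x = ∑ i, a i • e i := by
  have h0 : Module.Finite (ZMod p) V := Module.Finite.of_finite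
  have hr : finrank (ZMod p) V = h := by
    have h1 := Module.natCard_eq_pow_finrank (K := ZMod p) (V := V)
    rw [Nat.card_zmod, hV] at h1
    exact (Nat.pow_right_injective (Fact.out (p := p.Prime)).two_le h1).symm
  let b : Basis (Fin h) (ZMod p) V := finBasisOfFinrankEq _ _ hr
  refine ⟨fun i => b i, fun x => ⟨fun i => (b.repr x i).val, ?_⟩⟩
  conv_lhs => rw [← b.sum_repr x]
  refine Finset.sum_congr rfl fun i _ => ?_
  conv_lhs => rw [← ZMod.natCast_zmod_val (b.repr x i)]
  rw [Nat.cast_smul_eq_nsmul]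

/-- an elementary abelian group of order `p ^ h` is generated by `h` elements. -/
theorem exists_gen (p h : ℕ) [Fact p.Prime] (X : Type u) [CommGroup X] [Finite X] (hX : Nat.card X = p ^ h)
    (hp : ∀ x : X, x ^ p = 1) : ∃ e : Fin h → X, ∀ x : X, ∃ a : Fin h → ℕ, x = ∏ i, e i ^ a i := by
  let _i : Module (ZMod p) (Additive X) := AddCommGroup.zmodModule (n := p) (fun x => by
    change Additive.ofMul ((Additive.toMul x) ^ p) = 0
    rw [hp]
    rfl)
  obtain ⟨e, he⟩ := exists_gen_add p h (Additive X) hX
  refine ⟨fun i => (e i).toMul, fun x => ?_⟩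
  obtain ⟨a, ha⟩ := he (Additive.ofMul x)
  refine ⟨a, ?_⟩
  have h2 := congrArg Additive.toMul ha
  rw [toMul_sum] at h2
  exact h2

variable {X : ℕ → Type u} [∀ n, CommGroup (X n)]

/-- lift an element of `X n` to a compatible family. -/
theorem exists_lift (s : ∀ n, X (n + 1) →* X n) (hs : ∀ n, Function.Surjective (s n)) (f : X 1) :
    ∃ e : ∀ n, X n, e 1 = f ∧ ∀ n, s n (e (n + 1)) = e n := by
  choose g hg using hs
  let e : ∀ n, X n := fun n => Nat.rec (motive := fun n => X n) (s 0 f)
    (fun n x => Nat.casesOn (motive := fun n => X n → X (n + 1)) n (fun _ => f) (fun m y => g (m + 1) y) x) n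
  have h1 : e 1 = f := rfl
  have h2 : ∀ n, e (n + 2) = g (n + 1) (e (n + 1)) := fun n => rfl
  refine ⟨e, h1, fun n => ?_⟩
  cases n with
  | zero => exact congrArg (s 0) h1
  | succ m => exact (congrArg (s (m + 1)) (h2 m)).trans (hg _ _)

theorem pow_eq_one (p : ℕ) (r : ∀ n, X n →* X (n + 1)) (s : ∀ n, X (n + 1) →* X n)
    (hrs : ∀ n (x : X (n + 1)), r n (s n x) = x ^ p) (h0 : ∀ x : X 0, x = 1) (n : ℕ) (x : X n) : x ^ p ^ n = 1 := by
  induction n with
  | zero => rw [h0 x, one_pow]
  | succ n ih => rw [pow_succ', pow_mul, ← hrs, ← map_pow, ih, map_one]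

/-- the main lemma. -/
theorem exists_basis (p h : ℕ) [Fact p.Prime] [∀ n, Finite (X n)] (hc : ∀ n, Nat.card (X n) = p ^ (n * h))
    (r : ∀ n, X n →* X (n + 1)) (s : ∀ n, X (n + 1) →* X n) (hr : ∀ n, Function.Injective (r n))
    (hs : ∀ n, Function.Surjective (s n)) (hrs : ∀ n (x : X (n + 1)), r n (s n x) = x ^ p)
    (hsr : ∀ n (x : X n), s n (r n x) = x ^ p) :
    ∃ e : Fin h → ∀ n, X n, (∀ i n, s n (e i (n + 1)) = e i n) ∧
      ∀ n (x : X n), x ^ p ^ n = 1 ∧ ∃ a : Fin h → ℕ, x = ∏ i, e i n ^ a i := by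
  classical
  have h0 : ∀ x : X 0, x = 1 := by
    have h1 := hc 0
    rw [zero_mul, pow_zero, Nat.card_eq_one_iff_unique] at h1
    exact fun x => @Subsingleton.elim _ h1.1 _ _
  have hpow := pow_eq_one p r s hrs h0
  have hX1 : Nat.card (X 1) = p ^ h := by rw [hc 1, one_mul]
  obtain ⟨f, hf⟩ := exists_gen p h (X 1) hX1 (fun x => by simpa using hpow 1 x)
  choose e he1 he using fun i => exists_lift s hs (f i)
  refine ⟨e, he, fun n => ?_⟩
  -- generators of the kernel of `s n`
  have hker : ∀ n (x : X (n + 1)), s n x = 1 → ∃ a : Fin h → ℕ, x = ∏ i, e i (n + 1) ^ (p ^ n * a i) := by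
    intro n
    -- iterated `r`
    let R : ∀ n, X 1 →* X (n + 1) := fun n => Nat.rec (motive := fun n => X 1 →* X (n + 1)) (MonoidHom.id _)
      (fun n g => (r (n + 1)).comp g) n
    have hR0 : R 0 = MonoidHom.id _ := rfl
    have hRs : ∀ n, R (n + 1) = (r (n + 1)).comp (R n) := fun n => rfl
    have hRi : ∀ n, Function.Injective (R n) := by
      intro n
      induction n with
      | zero => exact fun x y h => h
      | succ n ih => rw [hRs]; exact (hr (n + 1)).comp ih
    have hRe : ∀ n i, R n (e i 1) = e i (n + 1) ^ p ^ n := by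
      intro n i
      induction n with
      | zero => simp [hR0]
      | succ n ih =>
        rw [hRs, MonoidHom.comp_apply, ih, map_pow, ← he i (n + 1), hrs, ← pow_mul, ← pow_succ']
    have hRk : ∀ n x, s n (R n x) = 1 := by
      intro n x
      cases n with
      | zero => exact h0 _
      | succ n =>
        rw [hRs, MonoidHom.comp_apply, hsr, ← map_pow]
        have : x ^ p = 1 := by simpa using hpow 1 x
        rw [this, map_one]
    -- counting
    have hcard : Nat.card (s n).ker = p ^ h := by
      have h2 := Subgroup.card_mul_index (s n).ker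
      rw [Subgroup.index_ker, MonoidHom.range_eq_top.mpr (hs n), hc (n + 1)] at h2
      have h3 : Nat.card (⊤ : Subgroup (X n)) = p ^ (n * h) := by
        rw [← hc n]; exact Nat.card_congr (Subgroup.topEquiv.toEquiv)
      rw [h3] at h2
      have h4 : p ^ ((n + 1) * h) = p ^ h * p ^ (n * h) := by rw [← pow_add]; congr 1; ring
      rw [h4] at h2
      exact Nat.eq_of_mul_eq_mul_right (pow_pos (Fact.out (p := p.Prime)).pos _) h2
    let R' : X 1 →* (s n).ker := (R n).codRestrict (s n).ker (fun x => (hRk n x : _))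
    have hR'i : Function.Injective R' := fun x y hxy => hRi n (congrArg Subtype.val hxy)
    haveI : Finite (s n).ker := inferInstance
    have hR's : Function.Surjective R' := by
      have h5 : Nat.card (X 1) = Nat.card (s n).ker := by rw [hX1, hcard]
      exact ((Nat.bijective_iff_injective_and_card R').mpr ⟨hR'i, h5⟩).2
    intro x hx
    obtain ⟨y, hy⟩ := hR's ⟨x, hx⟩
    obtain ⟨a, ha⟩ := hf y
    refine ⟨a, ?_⟩
    have h6 : R n y = x := congrArg Subtype.val hy
    rw [← h6, ha, map_prod]
    refine Finset.prod_congr rfl fun i _ => ?_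
    rw [map_pow, ← he1 i, hRe, ← pow_mul]
  induction n with
  | zero => exact fun x => ⟨hpow 0 x, fun _ => 0, by rw [h0 x]; simp⟩
  | succ n ih =>
    intro x
    refine ⟨hpow (n + 1) x, ?_⟩
    obtain ⟨a, ha⟩ := (ih (s n x)).2
    obtain ⟨b, hb⟩ := hker n (x * (∏ i, e i (n + 1) ^ a i)⁻¹) (by
      rw [map_mul, map_inv, map_prod]
      simp only [map_pow, he]
      rw [← ha, mul_inv_cancel])
    refine ⟨fun i => p ^ n * b i + a i, ?_⟩
    have h7 : x = (x * (∏ i, e i (n + 1) ^ a i)⁻¹) * (∏ i, e i (n + 1) ^ a i) := by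
      rw [inv_mul_cancel_right]
    rw [h7, hb, ← Finset.prod_mul_distrib]
    refine Finset.prod_congr rfl fun i _ => ?_
    rw [pow_add]

/-- in a commutative group of exponent dividing `N` and order `N ^ h` generated by `h` elements, exponents are
well defined modulo `N`: every assignment extends to a character. -/
theorem exists_char (N h : ℕ) [NeZero N] (X : Type u) [CommGroup X] [Finite X] (hX : Nat.card X = N ^ h)
    (e : Fin h → X) (hN : ∀ x : X, x ^ N = 1) (he : ∀ x : X, ∃ a : Fin h → ℕ, x = ∏ i, e i ^ a i)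
    {G : Type u} [CommGroup G] (z : Fin h → G) (hz : ∀ i, z i ^ N = 1) :
    ∃ χ : X →* G, ∀ i, χ (e i) = z i := by
  classical
  let V := Fin h → ZMod N
  have hV : Nat.card V = N ^ h := by
    rw [Nat.card_pi]; simp
  let F : (G' : Type u) → [CommGroup G'] → (Fin h → G') → V → G' := fun G' _ w c => ∏ i, w i ^ (c i).val
  have hF : ∀ (G' : Type u) [CommGroup G'] (w : Fin h → G') (hw : ∀ i, w i ^ N = 1) (c d : V),
      F G' w (c + d) = F G' w c * F G' w d := by
    intro G' _ w hw c d
    simp only [F]
    rw [← Finset.prod_mul_distrib]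
    refine Finset.prod_congr rfl fun i _ => ?_
    rw [Pi.add_apply, ZMod.val_add, ← pow_add]
    conv_rhs => rw [← Nat.mod_add_div ((c i).val + (d i).val) N, pow_add, pow_mul, hw, one_pow, mul_one]
  have hsurj : Function.Surjective (F X e) := by
    intro x
    obtain ⟨a, ha⟩ := he x
    refine ⟨fun i => (a i : ZMod N), ?_⟩
    rw [ha]
    refine Finset.prod_congr rfl fun i _ => ?_
    rw [ZMod.val_natCast]
    conv_rhs => rw [← Nat.mod_add_div (a i) N, pow_add, pow_mul, hN, one_pow, mul_one]
  have hbij : Function.Bijective (F X e) := (Nat.bijective_iff_surjective_and_card _).mpr ⟨hsurj, by rw [hV, hX]⟩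
  let E : V ≃ X := Equiv.ofBijective _ hbij
  have hE : ∀ c d : V, E (c + d) = E c * E d := hF X e (fun i => hN _)
  refine ⟨⟨⟨fun x => F G z (E.symm x), ?_⟩, ?_⟩, fun i => ?_⟩
  · have h1 : E 0 = 1 := by
      have h2 := hE 0 0
      rw [add_zero] at h2
      exact (mul_eq_left.mp h2.symm)
    have h3 : E.symm 1 = 0 := by rw [Equiv.symm_apply_eq, h1]
    rw [h3]
    change ∏ i, z i ^ (0 : ZMod N).val = 1
    simp
  · intro x y
    have h4 : E.symm (x * y) = E.symm x + E.symm y := by
      rw [Equiv.symm_apply_eq, hE, Equiv.apply_symm_apply, Equiv.apply_symm_apply]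
    simp only [h4]
    exact hF G z hz _ _
  · change F G z (E.symm (e i)) = z i
    by_cases hN1 : N = 1
    · subst hN1
      have h5 : ∀ w : G, (∃ j, z j = w) → w = 1 := by
        rintro w ⟨j, rfl⟩
        simpa using hz j
      have h6 : F G z (E.symm (e i)) = 1 := by
        simp only [F]
        refine Finset.prod_eq_one fun j _ => ?_
        rw [h5 (z j) ⟨j, rfl⟩, one_pow]
      rw [h6, h5 (z i) ⟨i, rfl⟩]
    · have hN2 : 1 < N := by
        have := NeZero.ne N
        omega
      haveI : Fact (1 < N) := ⟨hN2⟩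
      have h7 : E (Pi.single i 1) = e i := by
        change ∏ j, e j ^ ((Pi.single i 1 : V) j).val = e i
        rw [Finset.prod_eq_single i]
        · rw [Pi.single_eq_same, ZMod.val_one, pow_one]
        · intro j _ hj
          rw [Pi.single_eq_of_ne hj, ZMod.val_zero, pow_zero]
        · intro h; exact absurd (Finset.mem_univ i) h
      have h8 : E.symm (e i) = Pi.single i 1 := by rw [Equiv.symm_apply_eq, h7]
      rw [h8]
      change ∏ j, z j ^ ((Pi.single i 1 : V) j).val = z i
      rw [Finset.prod_eq_single i]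
      · rw [Pi.single_eq_same, ZMod.val_one, pow_one]
      · intro j _ hj
        rw [Pi.single_eq_of_ne hj, ZMod.val_zero, pow_zero]
      · intro h; exact absurd (Finset.mem_univ i) h

end K751.Tow
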